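import Mathlib
import Cfsg.Agent.KFacts.RgdSL
import Cfsg.Agent.Nodes.Unique
import Cfsg.Agent.KFacts.RgdField
import Cfsg.Agent.KFacts.RgdTau
import Cfsg.Agent.KFacts.RgdFixU
import Cfsg.Agent.OddHalf.D7Out.Defs
import Cfsg.Agent.LieRecognition.FieldSemilinear
import Cfsg.Agent.KFacts.RgdFld.Two

-- merged: Cfsg.Agent.KFacts.RgdFld.Layer
section

/-!
# Layers of the unipotent group of a simply laced root group datum

* `Lay cs h k` : the roots of height at least `k`; `Bet cs h k S` : `Lay (k + 1) ⊆ S ⊆ Lay k`;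
* `Bet.U_le_normalizer`, `Bet.exists_mul`, `X_inf_Sup`;
* `comm_mem_of_gen`, `comm_lay`.
-/

set_option autoImplicit false
set_option linter.unusedSectionVars false

namespace Cfsg.Agent.KFacts.RgdFld.Layer

open CoxeterSystem Cfsg.Agent.ChevalleyStructure.CoxeterGeom Cfsg.Agent.Tits.Roots Cfsg.Agent.Tits.Core
  Cfsg.Agent.Tits.Exchange Cfsg.Agent.Nodes.Reps Cfsg.Agent.Nodes.BNOf Cfsg.Agent.Nodes.StabComb
  Cfsg.Agent.Nodes.Bruhat Cfsg.Agent.Nodes.OppDec Cfsg.Agent.Nodes.PosPair Cfsg.Agent.Nodes.Coroot Cfsg.Agent.KFacts.RgdSL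
open scoped commutatorElement

variable {I W Y : Type*} [Fintype I] [DecidableEq I] [Group W] [Group Y] {M : CoxeterMatrix I}
  {cs : CoxeterSystem M W} {A : I → I → ℤ} {h : IsCartan M A} {p : ℕ} {T : Subgroup Y} {n : I → Y}
  {X : (I → ℤ) → Subgroup Y}

/-! ### Combinatorics -/

theorem pos_of_ht {x : I → ℤ} (hx : IsRoot cs h x) (h0 : 0 < ht x) : 0 ≤ x := by
  rcases hx.pos_or_neg with h1 | h1
  · exact h1
  · exfalso
    have : ht x ≤ 0 := Finset.sum_nonpos fun i _ => h1 i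
    omega

theorem ne_neg_of_pos {x y : I → ℤ} (hx : x ∈ RGD.Pos cs h) (hy : y ∈ RGD.Pos cs h) : x ≠ -y := by
  intro h1
  have h2 := hx.2
  rw [h1] at h2
  exact hy.1.neg.not_pos_neg h2 (neg_nonpos.2 hy.2)

theorem btwn_pos [Finite W] (hs : SL cs h) {x y z : I → ℤ} (hx : x ∈ RGD.Pos cs h) (hy : y ∈ RGD.Pos cs h)
    (hz : Btwn cs h x y z) : (x = y ∧ z = x) ∨ (x ≠ y ∧ cpr cs h x y = -1 ∧ z = x + y) := by
  by_cases hxy : x = y
  · left
    refine ⟨hxy, ?_⟩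
    subst hxy
    have h2 := RGD.nonneg_of_btwn hx.2 hx.2 hz
    obtain ⟨hzr, m, a, b, hm, ha, hb, he⟩ := hz
    rw [← add_smul] at he
    rcases eq_or_eq_neg_of_smul cs h hzr hx.1 hm.ne' he with h1 | h1
    · exact h1
    · exfalso
      rw [h1] at h2
      exact hx.1.neg.not_pos_neg h2 (neg_nonpos.2 hx.2)
  · right
    obtain ⟨h1, h2⟩ := hs.btwn hx.1 hy.1 hxy (ne_neg_of_pos hx hy) hz
    exact ⟨hxy, h1, h2⟩

/-- The roots of height at least `k`. -/
def Lay (cs : CoxeterSystem M W) (h : IsCartan M A) (k : ℤ) : Set (I → ℤ) := {x | IsRoot cs h x ∧ k ≤ ht x}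

theorem lay_sub {k : ℤ} (hk : 0 < k) : Lay cs h k ⊆ RGD.Pos cs h := fun x hx =>
  ⟨hx.1, pos_of_ht hx.1 (by have := hx.2; omega)⟩

theorem lay_mono {k l : ℤ} (hk : k ≤ l) : Lay cs h l ⊆ Lay cs h k := fun _ hx => ⟨hx.1, le_trans hk hx.2⟩

theorem lay_one : Lay cs h 1 = RGD.Pos cs h := by
  refine Set.Subset.antisymm (lay_sub one_pos) fun x hx => ⟨hx.1, ?_⟩
  have := RGD.ht_pos hx.1 hx.2
  omega

/-- `S` lies between two layers. -/
structure Bet (cs : CoxeterSystem M W) (h : IsCartan M A) (k : ℤ) (S : Set (I → ℤ)) : Prop where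
  pos : 0 < k
  le : S ⊆ Lay cs h k
  ge : Lay cs h (k + 1) ⊆ S

theorem bet_lay {k : ℤ} (hk : 0 < k) : Bet cs h k (Lay cs h k) := ⟨hk, le_rfl, lay_mono (by omega)⟩

theorem Bet.sub {k : ℤ} {S : Set (I → ℤ)} (B : Bet cs h k S) : S ⊆ RGD.Pos cs h := B.le.trans (lay_sub B.pos)

theorem Bet.diff {k : ℤ} {S : Set (I → ℤ)} (B : Bet cs h k S) {a : I → ℤ} (ha : ht a = k) :
    Bet cs h k (S \ {a}) := by
  refine ⟨B.pos, Set.sdiff_subset.trans B.le, fun x hx => ⟨B.ge hx, ?_⟩⟩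
  rintro rfl
  have := hx.2
  omega

theorem Bet.up [Finite W] (hs : SL cs h) {k : ℤ} {S : Set (I → ℤ)} (B : Bet cs h k S) {x y z : I → ℤ} (hx : x ∈ S)
    (hy : y ∈ RGD.Pos cs h) (hz : Btwn cs h x y z) : z ∈ S := by
  rcases btwn_pos hs (B.sub hx) hy hz with ⟨-, rfl⟩ | ⟨-, -, rfl⟩
  · exact hx
  · refine B.ge ⟨hz.1, ?_⟩
    rw [RGD.ht_add]
    have h1 := (B.le hx).2
    have h2 := RGD.ht_pos hy.1 hy.2
    omega

theorem Bet.closed [Finite W] (hs : SL cs h) {k : ℤ} {S : Set (I → ℤ)} (B : Bet cs h k S) :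
    Nodes.Unique.Closed cs h S := fun _ hx _ hy _ hz => B.up hs hx (B.sub hy) hz

theorem closed_one [Finite W] (hs : SL cs h) {a : I → ℤ} (ha : a ∈ RGD.Pos cs h) :
    Nodes.Unique.Closed cs h {a} := by
  rintro x hx y hy z hz
  rw [Set.mem_singleton_iff] at hx hy ⊢
  subst hx hy
  rcases btwn_pos hs ha ha hz with ⟨-, h1⟩ | ⟨h1, -⟩
  · exact h1
  · exact absurd rfl h1

theorem Sup_one (a : I → ℤ) : RGD.Sup X {a} = X a := by
  apply le_antisymm
  · refine RGD.Sup_le fun z hz => ?_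
    rw [Set.mem_singleton_iff] at hz
    rw [hz]
  · exact RGD.le_Sup (Set.mem_singleton a)

/-! ### Commutators -/

theorem comm_mem_of_gen {N H : Subgroup Y} (hN : H ≤ Subgroup.normalizer (N : Set Y)) {S S' : Set (I → ℤ)}
    (hS : RGD.Sup X S ≤ H) (hS' : RGD.Sup X S' ≤ H)
    (hg : ∀ x ∈ S, ∀ y ∈ S', ∀ a ∈ X x, ∀ b ∈ X y, ⁅a, b⁆ ∈ N) {a b : Y} (ha : a ∈ RGD.Sup X S)
    (hb : b ∈ RGD.Sup X S') : ⁅a, b⁆ ∈ N := by
  have hconj : ∀ g ∈ H, ∀ c ∈ N, g * c * g⁻¹ ∈ N := fun g hg c hc =>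
    (Subgroup.mem_normalizer_iff.1 (hN hg) c).1 hc
  -- the subgroup of the elements commuting with `b` modulo `N`
  have key : ∀ b : Y, ∃ C : Subgroup Y, ∀ a, a ∈ C ↔ a ∈ H ∧ ⁅a, b⁆ ∈ N := by
    intro b
    refine ⟨{ carrier := {a | a ∈ H ∧ ⁅a, b⁆ ∈ N}
              mul_mem' := ?_
              one_mem' := ⟨one_mem _, by rw [commutatorElement_one_left]; exact one_mem _⟩
              inv_mem' := ?_ }, fun a => Iff.rfl⟩
    · rintro a a' ⟨ha, ha'⟩ ⟨hb, hb'⟩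
      refine ⟨mul_mem ha hb, ?_⟩
      have e : ⁅a * a', b⁆ = a * ⁅a', b⁆ * a⁻¹ * ⁅a, b⁆ := by simp only [commutatorElement_def]; group
      rw [e]
      exact mul_mem (hconj a ha _ hb') ha'
    · rintro a ⟨ha, ha'⟩
      refine ⟨inv_mem ha, ?_⟩
      have e : ⁅a⁻¹, b⁆ = a⁻¹ * (⁅a, b⁆)⁻¹ * (a⁻¹)⁻¹ := by simp only [commutatorElement_def]; group
      rw [e]
      exact hconj _ (inv_mem ha) _ (inv_mem ha')
  have h1 : ∀ y ∈ S', ∀ b ∈ X y, ∀ a ∈ RGD.Sup X S, ⁅a, b⁆ ∈ N := by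
    intro y hy b hb a ha
    obtain ⟨C, hC⟩ := key b
    have h2 : RGD.Sup X S ≤ C := RGD.Sup_le fun x hx a ha =>
      (hC a).2 ⟨hS (RGD.le_Sup hx ha), hg x hx y hy a ha b hb⟩
    exact ((hC a).1 (h2 ha)).2
  obtain ⟨C, hC⟩ := key a
  have h2 : RGD.Sup X S' ≤ C := RGD.Sup_le fun y hy b hb => (hC b).2 ⟨hS' (RGD.le_Sup hy hb), by
    have h3 := inv_mem (h1 y hy b hb a ha)
    rwa [commutatorElement_inv] at h3⟩
  have h3 := inv_mem ((hC b).1 (h2 hb)).2
  rwa [commutatorElement_inv] at h3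

section

variable (R : RGD cs h p T n X)

include R

theorem Bet.U_le_normalizer [Finite W] (hs : SL cs h) {k : ℤ} {S : Set (I → ℤ)} (B : Bet cs h k S) :
    RGD.Sup X (RGD.Pos cs h) ≤ Subgroup.normalizer (RGD.Sup X S : Set Y) := by
  refine RGD.Sup_le fun y hy => R.le_normalizer hy.1 fun x hx => ⟨(B.sub hx).1, ?_⟩
  by_cases hxy : y = x
  · exact Or.inl hxy
  · exact Or.inr ⟨ne_neg_of_pos hy (B.sub hx), fun z hz => B.up hs hx hy hz.symm⟩

theorem Bet.conj_mem [Finite W] (hs : SL cs h) {k : ℤ} {S : Set (I → ℤ)} (B : Bet cs h k S) {u s : Y}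
    (hu : u ∈ RGD.Sup X (RGD.Pos cs h)) (hsm : s ∈ RGD.Sup X S) : u * s * u⁻¹ ∈ RGD.Sup X S :=
  (Subgroup.mem_normalizer_iff.1 (B.U_le_normalizer R hs hu) s).1 hsm

theorem Bet.conj_mem' [Finite W] (hs : SL cs h) {k : ℤ} {S : Set (I → ℤ)} (B : Bet cs h k S) {u s : Y}
    (hu : u ∈ RGD.Sup X (RGD.Pos cs h)) (hsm : s ∈ RGD.Sup X S) : u⁻¹ * s * u ∈ RGD.Sup X S := by
  have := B.conj_mem R hs (inv_mem hu) hsm
  rwa [inv_inv] at this

theorem Bet.exists_mul [Finite W] (hs : SL cs h) {k : ℤ} {S : Set (I → ℤ)} (B : Bet cs h k S) {a : I → ℤ}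
    (ha : a ∈ S) (hak : ht a = k) {v : Y} (hv : v ∈ RGD.Sup X S) :
    ∃ x ∈ X a, ∃ s ∈ RGD.Sup X (S \ {a}), v = x * s := by
  have hn : X a ≤ Subgroup.normalizer (RGD.Sup X (S \ {a}) : Set Y) :=
    le_trans (RGD.le_Sup (B.sub ha)) ((B.diff hak).U_le_normalizer R hs)
  have h1 : v ∈ ((X a ⊔ RGD.Sup X (S \ {a}) : Subgroup Y) : Set Y) := by
    refine (?_ : RGD.Sup X S ≤ _) hv
    refine RGD.Sup_le fun z hz => ?_
    by_cases hz0 : z = a
    · subst hz0; exact le_sup_left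
    · exact le_trans (RGD.le_Sup (S := S \ {a}) ⟨hz, hz0⟩) le_sup_right
  rw [Subgroup.coe_mul_of_left_le_normalizer_right _ _ hn, Set.mem_mul] at h1
  obtain ⟨x, hx, s, hsm, e⟩ := h1
  exact ⟨x, hx, s, hsm, e.symm⟩

theorem X_inf_Sup [Finite W] (hs : SL cs h) {k : ℤ} {S : Set (I → ℤ)} (B : Bet cs h k S) {a : I → ℤ}
    (ha : a ∈ RGD.Pos cs h) (haS : a ∉ S) {y : Y} (h1 : y ∈ X a) (h2 : y ∈ RGD.Sup X S) : y = 1 := by
  have h3 := Nodes.Unique.inf_eq R (S := {a}) (Set.singleton_subset_iff.2 ha) B.sub (closed_one hs ha) (B.closed hs)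
  have h4 : y ∈ RGD.Sup X {a} ⊓ RGD.Sup X S := ⟨by rw [Sup_one]; exact h1, h2⟩
  rw [h3, Set.singleton_inter_eq_empty.2 haS, Sup_empty] at h4
  exact Subgroup.mem_bot.1 h4

/-- the intersection of two sets between layers -/
theorem Sup_inf_Sup [Finite W] (hs : SL cs h) {k l : ℤ} {S S' : Set (I → ℤ)} (B : Bet cs h k S)
    (B' : Bet cs h l S') : RGD.Sup X S ⊓ RGD.Sup X S' = RGD.Sup X (S ∩ S') :=
  Nodes.Unique.inf_eq R B.sub B'.sub (B.closed hs) (B'.closed hs)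

/-- Commutators of root groups. -/
theorem comm_root [Finite W] (hs : SL cs h) {x y : I → ℤ} (hx : x ∈ RGD.Pos cs h) (hy : y ∈ RGD.Pos cs h)
    (hab : ∀ a ∈ X x, ∀ b ∈ X x, a * b = b * a) {S : Set (I → ℤ)} (hS : cpr cs h x y = -1 → x + y ∈ S) {a b : Y}
    (ha : a ∈ X x) (hb : b ∈ X y) : ⁅a, b⁆ ∈ RGD.Sup X S := by
  by_cases hxy : x = y
  · subst hxy
    rw [commutatorElement_eq_one_iff_mul_comm.2 (hab a ha b hb)]
    exact one_mem _
  · refine R.btw_le_Sup ?_ (R.comm x y hx.1 hy.1 hxy (ne_neg_of_pos hx hy) a ha b hb)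
    intro z hz
    rcases btwn_pos hs hx hy hz with ⟨h1, -⟩ | ⟨-, h1, rfl⟩
    · exact absurd h1 hxy
    · exact hS h1

/-- `[V_k, V_l] ≤ V_{k+l}` -/
theorem comm_lay [Finite W] (hs : SL cs h) (hab : ∀ x, IsRoot cs h x → ∀ a ∈ X x, ∀ b ∈ X x, a * b = b * a)
    {k l : ℤ} (hk : 0 < k) (hl : 0 < l) {a b : Y} (ha : a ∈ RGD.Sup X (Lay cs h k)) (hb : b ∈ RGD.Sup X (Lay cs h l)) :
    ⁅a, b⁆ ∈ RGD.Sup X (Lay cs h (k + l)) := by
  refine comm_mem_of_gen ((bet_lay (by omega)).U_le_normalizer R hs) (RGD.Sup_mono (lay_sub hk))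
    (RGD.Sup_mono (lay_sub hl)) ?_ ha hb
  intro x hx y hy a ha b hb
  refine comm_root R hs (lay_sub hk hx) (lay_sub hl hy) (hab x hx.1) (fun hc => ?_) ha hb
  refine ⟨isRoot_add hx.1 hy.1 hc, ?_⟩
  rw [RGD.ht_add]
  have h1 := hx.2
  have h2 := hy.2
  omega

end

end Cfsg.Agent.KFacts.RgdFld.Layer

end

-- merged: Cfsg.Agent.KFacts.RgdFld.Coh
section

/-!
# `H¹(⟨β⟩, U) = 0` for a field automorphism `β`

* `Coh β P` : `H¹(⟨β⟩, P) = 0` for an involution `β`; `Coh.lift` : fixed points lift;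
* `Act β X f` : the involution `β` permutes the root groups as `f`;
* `coh_Sup` : `Coh β (X x)` for the roots `x` fixed by `f` implies `Coh β U`;
* `coh_coord` : `Coh` for a semilinear action on a root group.
-/

set_option autoImplicit false
set_option linter.unusedSectionVars false
set_option linter.dupNamespace false

namespace Cfsg.Agent.KFacts.RgdFld.Coh

open CoxeterSystem Cfsg.Agent.ChevalleyStructure.CoxeterGeom Cfsg.Agent.Tits.Roots Cfsg.Agent.Tits.Core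
  Cfsg.Agent.Tits.Exchange Cfsg.Agent.Nodes.Reps Cfsg.Agent.Nodes.BNOf Cfsg.Agent.Nodes.StabComb
  Cfsg.Agent.Nodes.Bruhat Cfsg.Agent.Nodes.OppDec Cfsg.Agent.Nodes.PosPair Cfsg.Agent.Nodes.Coroot Cfsg.Agent.KFacts.RgdSL
  Cfsg.Agent.KFacts.RgdFld.Layer Cfsg.Agent.KFacts.RgdField
open scoped commutatorElement

/-- `H¹(⟨β⟩, P) = 0` for the involution `β`. -/
def Coh {Y : Type*} [Group Y] (β : MulAut Y) (P : Subgroup Y) : Prop :=
  ∀ v ∈ P, v * β v = 1 → ∃ s ∈ P, s * v * (β s)⁻¹ = 1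

/-- Fixed points lift. -/
theorem Coh.lift {Y : Type*} [Group Y] {β : MulAut Y} {P : Subgroup Y} (hP : Coh β P) (hβ : ∀ y, β (β y) = y)
    {v : Y} (hv : v⁻¹ * β v ∈ P) : ∃ s ∈ P, β (v * s) = v * s := by
  obtain ⟨s, hs, e⟩ := hP _ hv (by rw [map_mul, map_inv, hβ]; group)
  refine ⟨s⁻¹, inv_mem hs, ?_⟩
  have h1 : β v = v * s⁻¹ * β s := by
    have h2 : s * (v⁻¹ * β v) = β s := mul_inv_eq_one.1 e
    rw [← h2]; group
  rw [map_mul, map_inv, h1]
  group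

variable {I W Y : Type*} [Fintype I] [DecidableEq I] [Group W] [Group Y] {M : CoxeterMatrix I}
  {cs : CoxeterSystem M W} {A : I → I → ℤ} {h : IsCartan M A} {p : ℕ} {T : Subgroup Y} {n : I → Y}
  {X : (I → ℤ) → Subgroup Y}

/-- The involution `β` permutes the root groups as `f`. -/
structure Act (cs : CoxeterSystem M W) (h : IsCartan M A) (X : (I → ℤ) → Subgroup Y) (β : MulAut Y)
    (f : (I → ℤ) → (I → ℤ)) : Prop where
  sq : ∀ y, β (β y) = y
  inv : ∀ x, f (f x) = x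
  root : ∀ x, IsRoot cs h x → IsRoot cs h (f x)
  ht : ∀ x, ht (f x) = ht x
  map : ∀ x, IsRoot cs h x → ∀ y ∈ X x, β y ∈ X (f x)

theorem Act.map_Sup {β : MulAut Y} {f : (I → ℤ) → (I → ℤ)} (E : Act cs h X β f) {S : Set (I → ℤ)}
    (hS : ∀ x ∈ S, IsRoot cs h x ∧ f x ∈ S) {y : Y} (hy : y ∈ RGD.Sup X S) : β y ∈ RGD.Sup X S := by
  have h1 : RGD.Sup X S ≤ (RGD.Sup X S).comap β.toMonoidHom :=
    RGD.Sup_le fun x hx y hy => RGD.le_Sup (hS x hx).2 (E.map x (hS x hx).1 y hy)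
  exact h1 hy

section

variable (R : RGD cs h p T n X)

include R

theorem coh_Sup_aux [Finite W] (hs : SL cs h)
    {β : MulAut Y} {f : (I → ℤ) → (I → ℤ)} (E : Act cs h X β f)
    (hfix : ∀ x ∈ RGD.Pos cs h, f x = x → Coh β (X x)) (m : ℕ) : ∀ (k : ℤ) (S : Set (I → ℤ)), Bet cs h k S →
      (∀ x ∈ S, f x ∈ S) → S.ncard = m → Coh β (RGD.Sup X S) := by
  induction m using Nat.strong_induction_on with
  | _ m ih =>
  intro k S B hf hm
  have hfin : S.Finite := (RGD.finite_roots (cs := cs) (h := h)).subset fun x hx => (B.sub hx).1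
  rcases S.eq_empty_or_nonempty with rfl | hne
  · intro v hv _
    rw [Sup_empty, Subgroup.mem_bot] at hv
    subst hv
    exact ⟨1, one_mem _, by rw [map_one]; group⟩
  -- a root of minimal height
  obtain ⟨a, ha, hmin⟩ := Set.exists_min_image S ht hfin hne
  have B' : Bet cs h (ht a) S := by
    have h1 := (B.le ha).2
    have h2 := B.pos
    exact ⟨by omega, fun x hx => ⟨(B.sub hx).1, hmin x hx⟩, (lay_mono (by omega)).trans B.ge⟩
  have haP := B.sub ha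
  have hfa := hf a ha
  have B1 := B'.diff (a := a) rfl
  have hmap : ∀ {S : Set (I → ℤ)}, S ⊆ RGD.Pos cs h → (∀ x ∈ S, f x ∈ S) → ∀ {y}, y ∈ RGD.Sup X S →
      β y ∈ RGD.Sup X S := fun hS hf y hy => E.map_Sup (fun x hx => ⟨(hS hx).1, hf x hx⟩) hy
  intro v hv hvv
  by_cases hfx : f a = a
  · -- a fixed root
    have hf1 : ∀ x ∈ S \ {a}, f x ∈ S \ {a} := by
      rintro x ⟨hx, hxa⟩
      refine ⟨hf x hx, fun h1 => hxa ?_⟩
      rw [Set.mem_singleton_iff] at h1 ⊢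
      rw [← E.inv x, h1, hfx]
    have hlt : (S \ {a}).ncard < m := by
      rw [← hm]
      exact Set.ncard_sdiff_singleton_lt_of_mem ha hfin
    have hcoh := ih _ hlt _ _ B1 hf1 rfl
    obtain ⟨x, hx, s, hsm, rfl⟩ := B'.exists_mul R hs ha rfl hv
    have hxU : x ∈ RGD.Sup X (RGD.Pos cs h) := RGD.le_Sup haP hx
    have hbx : β x ∈ X a := by
      have := E.map a haP.1 x hx
      rwa [hfx] at this
    have hbs := hmap B1.sub hf1 hsm
    have hN : x * β x ∈ RGD.Sup X (S \ {a}) := by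
      have h2 : x * β x = ((β x)⁻¹ * s * β x * β s)⁻¹ := by
        rw [map_mul] at hvv
        refine eq_inv_of_mul_eq_one_left ?_
        rw [← hvv]; group
      rw [h2]
      exact inv_mem (mul_mem (B1.conj_mem' R hs (RGD.le_Sup haP hbx) hsm) hbs)
    have h1 : x * β x = 1 := X_inf_Sup R hs B1 haP (fun h2 => h2.2 rfl) (mul_mem hx hbx) hN
    obtain ⟨r, hr, hrx⟩ := hfix a haP hfx x hx h1
    have hbr : β r ∈ X a := by
      have := E.map a haP.1 r hr
      rwa [hfx] at this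
    have e : r * (x * s) * (β r)⁻¹ = β r * s * (β r)⁻¹ := by
      have h2 : r * x = β r := mul_inv_eq_one.1 hrx
      rw [← mul_assoc, h2]
    have hv' : r * (x * s) * (β r)⁻¹ ∈ RGD.Sup X (S \ {a}) := by
      rw [e]
      exact B1.conj_mem R hs (RGD.le_Sup haP hbr) hsm
    obtain ⟨t, ht, hte⟩ := hcoh _ hv' (by
      rw [map_mul, map_mul, map_inv, E.sq]
      have h2 : r * (x * s) * (β r)⁻¹ * (β r * β (x * s) * r⁻¹) = r * (x * s * β (x * s)) * r⁻¹ := by group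
      rw [h2, hvv]; group)
    refine ⟨t * r, mul_mem (RGD.Sup_mono Set.sdiff_subset ht) (RGD.le_Sup ha hr), ?_⟩
    rw [map_mul, mul_inv_rev, ← hte]
    group
  · -- two roots exchanged by `f`
    have hbP := B.sub hfa
    have hb1 : f a ∈ S \ {a} := ⟨hfa, hfx⟩
    have B2 := B1.diff (a := f a) (E.ht a)
    have hf2 : ∀ x ∈ (S \ {a}) \ {f a}, f x ∈ (S \ {a}) \ {f a} := by
      rintro x ⟨⟨hx, hxa⟩, hxb⟩
      rw [Set.mem_singleton_iff] at hxa hxb
      refine ⟨⟨hf x hx, fun h1 => hxb ?_⟩, fun h1 => hxa ?_⟩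
      · rw [Set.mem_singleton_iff] at h1
        rw [← E.inv x, h1]
      · rw [Set.mem_singleton_iff] at h1
        rw [← E.inv x, h1, E.inv]
    have hlt : ((S \ {a}) \ {f a}).ncard < m := by
      rw [← hm]
      exact lt_of_le_of_lt (Set.ncard_le_ncard Set.sdiff_subset (hfin.subset Set.sdiff_subset))
        (Set.ncard_sdiff_singleton_lt_of_mem ha hfin)
    have hcoh := ih _ hlt _ _ B2 hf2 rfl
    obtain ⟨x, hx, s', hs', rfl⟩ := B'.exists_mul R hs ha rfl hv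
    obtain ⟨y, hy, s, hsm, rfl⟩ := B1.exists_mul R hs hb1 (E.ht a) hs'
    have hbx : β x ∈ X (f a) := E.map a haP.1 x hx
    have hby : β y ∈ X a := by
      have := E.map (f a) hbP.1 y hy
      rwa [E.inv] at this
    have hbs := hmap B2.sub hf2 hsm
    have hU : ∀ {z : Y}, z ∈ X a → z ∈ RGD.Sup X (RGD.Pos cs h) := fun hz => RGD.le_Sup haP hz
    have hU' : ∀ {z : Y}, z ∈ X (f a) → z ∈ RGD.Sup X (RGD.Pos cs h) := fun hz => RGD.le_Sup hbP hz
    have hsU : ∀ {z : Y}, z ∈ RGD.Sup X ((S \ {a}) \ {f a}) → z ∈ RGD.Sup X (RGD.Pos cs h) :=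
      fun hz => RGD.Sup_mono B2.sub hz
    -- `y (β x) = 1`
    have Bb := B'.diff (a := f a) (E.ht a)
    have h1 : y * β x = 1 := by
      refine X_inf_Sup R hs Bb hbP (fun h2 => h2.2 rfl) (mul_mem hy hbx) ?_
      have h2 : y * β x = x⁻¹ * ((β s)⁻¹ * (β y)⁻¹ * ((β x)⁻¹ * s * β x)⁻¹) := by
        rw [map_mul, map_mul] at hvv
        have h3 : x * (y * β x) * ((β x)⁻¹ * s * β x * β y * β s) = 1 := by
          rw [← hvv]; group
        have h4 := mul_eq_one_iff_eq_inv.1 h3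
        have h5 : y * β x = x⁻¹ * (x * (y * β x)) := by group
        rw [h5, h4]; group
      have hsub : (S \ {a}) \ {f a} ⊆ S \ {f a} := fun z hz => ⟨hz.1.1, hz.2⟩
      have haS : a ∈ S \ {f a} := ⟨ha, fun h3 => hfx h3.symm⟩
      rw [h2]
      refine mul_mem (inv_mem (RGD.le_Sup haS hx)) (mul_mem (mul_mem (inv_mem ?_) (inv_mem ?_)) (inv_mem ?_))
      · exact RGD.Sup_mono hsub hbs
      · exact RGD.le_Sup haS hby
      · exact Bb.conj_mem' R hs (hU' hbx) (RGD.Sup_mono hsub hsm)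
    have h2 : β x = y⁻¹ := (inv_eq_of_mul_eq_one_right h1).symm
    have e : x⁻¹ * (x * (y * s)) * β x = y * s * y⁻¹ := by
      rw [h2]; group
    obtain ⟨t, ht, hte⟩ := hcoh _ (B2.conj_mem R hs (hU' hy) hsm) (by
      have h3 : β (y * s * y⁻¹) = (β x)⁻¹ * β (x * (y * s)) * x := by
        rw [← e, map_mul β (x⁻¹ * (x * (y * s))), map_mul β x⁻¹, map_inv, E.sq]
      rw [h3, ← e]
      have h4 : x⁻¹ * (x * (y * s)) * β x * ((β x)⁻¹ * β (x * (y * s)) * x) =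
        x⁻¹ * (x * (y * s) * β (x * (y * s))) * x := by group
      rw [h4, hvv]; group)
    refine ⟨t * x⁻¹, mul_mem (RGD.Sup_mono (Set.sdiff_subset.trans Set.sdiff_subset) ht)
      (inv_mem (RGD.le_Sup ha hx)), ?_⟩
    rw [← e] at hte
    rw [map_mul, map_inv, mul_inv_rev, ← hte]
    group

theorem coh_Sup [Finite W] (hs : SL cs h)
    {β : MulAut Y} {f : (I → ℤ) → (I → ℤ)} (E : Act cs h X β f)
    (hfix : ∀ x ∈ RGD.Pos cs h, f x = x → Coh β (X x)) {k : ℤ} {S : Set (I → ℤ)} (B : Bet cs h k S)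
    (hf : ∀ x ∈ S, f x ∈ S) : Coh β (RGD.Sup X S) := coh_Sup_aux R hs E hfix _ k S B hf rfl

end

/-! ### One root group -/

/-- A semilinear involution with nontrivial field automorphism is not the identity. -/
theorem exists_trace {F : Type*} [Field F] [CharP F 2] {τ : F ≃+* F} (hτ : τ ≠ 1) {c : F} :
    ∃ θ, θ + c * τ θ ≠ 0 := by
  by_contra hcon
  push Not at hcon
  apply hτ
  have h1 : ∀ θ, c * τ θ = θ := by
    intro θ
    have h2 := hcon θ
    have h3 : c * τ θ = -θ := by linear_combination h2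
    rw [h3, CharTwo.neg_eq]
  have h2 : c = 1 := by
    have := h1 1
    rwa [map_one, mul_one] at this
  ext θ
  have := h1 θ
  rw [h2, one_mul] at this
  exact this

/-- Additive Hilbert 90 for a semilinear involution in characteristic two. -/
theorem exists_sub {F : Type*} [Field F] [CharP F 2] {τ : F ≃+* F} (hτ : τ ≠ 1) {c : F}
    (hcc : ∀ a, c * τ (c * τ a) = a) {l : F} (hl : c * τ l = l) : ∃ μ, μ + c * τ μ = l := by
  obtain ⟨θ, hθ⟩ := exists_trace hτ (c := c)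
  have ht : c * τ (θ + c * τ θ) = θ + c * τ θ := by
    rw [map_add, mul_add, hcc]; ring
  have hc : c ≠ 0 := by
    rintro rfl
    have := hcc 1
    rw [zero_mul] at this
    exact one_ne_zero this.symm
  have hf : τ (l / (θ + c * τ θ)) = l / (θ + c * τ θ) := by
    rw [map_div₀]
    have h1 : τ (θ + c * τ θ) ≠ 0 := fun h1 => hθ ((map_eq_zero τ).1 h1)
    rw [div_eq_div_iff h1 hθ]
    apply mul_left_cancel₀ hc
    have h2 : c * (τ l * (θ + c * τ θ)) = (c * τ l) * (θ + c * τ θ) := by ring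
    have h3 : c * (l * τ (θ + c * τ θ)) = l * (c * τ (θ + c * τ θ)) := by ring
    rw [h2, h3, hl, ht]
  refine ⟨l / (θ + c * τ θ) * θ, ?_⟩
  rw [map_mul, hf]
  field_simp

theorem coh_coord {Y : Type*} [Group Y] {F : Type*} [Field F] [CharP F 2] {T P : Subgroup Y} {x : F → Y} {χ : Y → F}
    (C : Coord T P x χ) {β : MulAut Y} (hβ : ∀ y, β (β y) = y) {τ : F ≃+* F} (hτ : τ ≠ 1) {c : F}
    (hx : ∀ a, β (x a) = x (c * τ a)) : Coh β P := by
  intro v hv hvv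
  obtain ⟨l, rfl⟩ := (C.mem v).1 hv
  have hcc : ∀ a, c * τ (c * τ a) = a := by
    intro a
    have := hβ (x a)
    rw [hx, hx] at this
    exact C.inj this
  have hl : c * τ l = l := by
    rw [hx, ← C.add, ← C.zero] at hvv
    have h1 := C.inj hvv
    have h2 : c * τ l = -l := by linear_combination h1
    rw [h2, CharTwo.neg_eq]
  obtain ⟨μ, hμ⟩ := exists_sub hτ hcc hl
  refine ⟨x μ, (C.mem _).2 ⟨μ, rfl⟩, ?_⟩
  rw [mul_inv_eq_one, ← C.add, hx]
  congr 1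
  rw [← hμ, ← add_assoc, CharTwo.add_self_eq_zero, zero_add]

end Cfsg.Agent.KFacts.RgdFld.Coh

end

-- merged: Cfsg.Agent.KFacts.RgdFld.Center
section

/-!
# The centre of `C_U(β)`

* `Str cs h x` : structure constants of the root groups;
* `exists_eff` : the effect of a simple root group on a layer;
* `Fram` : a frame involution with a nontrivial field automorphism;
* `Fram.center` : `Z(C_U(β)) ≤ X ρ`.
-/

set_option autoImplicit false
set_option linter.unusedSectionVars false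

namespace Cfsg.Agent.KFacts.RgdFld.Center

open CoxeterSystem Cfsg.Agent.ChevalleyStructure.CoxeterGeom Cfsg.Agent.Tits.Roots Cfsg.Agent.Tits.Core
  Cfsg.Agent.Tits.Exchange Cfsg.Agent.Nodes.Reps Cfsg.Agent.Nodes.BNOf Cfsg.Agent.Nodes.StabComb
  Cfsg.Agent.Nodes.Bruhat Cfsg.Agent.Nodes.OppDec Cfsg.Agent.Nodes.PosPair Cfsg.Agent.Nodes.Coroot
  Cfsg.Agent.KFacts.RgdSL Cfsg.Agent.KFacts.RgdAut Cfsg.Agent.KFacts.RgdDiag
  Cfsg.Agent.KFacts.RgdFld.Layer Cfsg.Agent.KFacts.RgdField Cfsg.Agent.KFacts.RgdTau Cfsg.Agent.KFacts.RgdFld.Coh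
open scoped commutatorElement

variable {I W Y : Type*} [Fintype I] [DecidableEq I] [Group W] [Group Y] {M : CoxeterMatrix I}
  {cs : CoxeterSystem M W} {A : I → I → ℤ} {h : IsCartan M A} {p : ℕ} {T : Subgroup Y} {n : I → Y}
  {X : (I → ℤ) → Subgroup Y} {F : Type*} [Field F] {x : (I → ℤ) → F → Y} {χ : (I → ℤ) → Y → F}

/-- Structure constants (simply laced case). -/
def Str (cs : CoxeterSystem M W) (h : IsCartan M A) (x : (I → ℤ) → F → Y) : Prop :=
  ∀ a b, IsRoot cs h a → IsRoot cs h b → cpr cs h a b = -1 → ∃ N : F, N ≠ 0 ∧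
    ∀ l m, ⁅x a l, x b m⁆ = x (a + b) (N * l * m)

theorem mem_lay {k : ℤ} {a : I → ℤ} (ha : IsRoot cs h a) (hk : k ≤ ht a) : a ∈ Lay cs h k := ⟨ha, hk⟩

theorem ht_sr (i : I) : ht (sr i : I → ℤ) = 1 := by
  unfold ht
  rw [Finset.sum_eq_single i (fun b _ hb => sr_ne hb) (fun h1 => absurd (Finset.mem_univ i) h1), sr_self]

theorem sr_mem_pos (i : I) : sr i ∈ RGD.Pos cs h := ⟨isRoot_sr cs h i, sr_nonneg i⟩

/-- two positive roots with a root as sum -/
theorem cpr_of_add [Finite W] (hs : SL cs h) {a b : I → ℤ} (ha : a ∈ RGD.Pos cs h) (hb : b ∈ RGD.Pos cs h)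
    (hab : IsRoot cs h (a + b)) : cpr cs h a b = -1 := by
  have hz : Btwn cs h a b (a + b) := Btwn.of_int hab one_pos one_pos (by rw [one_smul, one_smul])
  rcases btwn_pos hs ha hb hz with ⟨-, h1⟩ | ⟨-, h1, -⟩
  · exfalso
    have : b = 0 := by simpa using h1
    exact hb.1.ne_zero this
  · exact h1

section

variable (R : RGD cs h p T n X)

include R

theorem mem_U {a : I → ℤ} (ha : a ∈ RGD.Pos cs h) {y : Y} (hy : y ∈ X a) : y ∈ RGD.Sup X (RGD.Pos cs h) :=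
  RGD.le_Sup ha hy

/-- **The effect of a simple root group on a layer.** -/
theorem exists_eff [Finite W] (hs : SL cs h) (C : ∀ r, IsRoot cs h r → Coord T (X r) (x r) (χ r))
    (hN : Str cs h x) {k : ℤ} (hk : 0 < k) (j : I) {b : I → ℤ} (hb : IsRoot cs h b) (hbk : ht b = k + 1) {v : Y}
    (hv : v ∈ RGD.Sup X (Lay cs h k)) :
    ∃ e : F, (∀ μ, ⁅x (sr j) μ, v⁆ * (x b (e * μ))⁻¹ ∈ RGD.Sup X (Lay cs h (k + 1) \ {b})) ∧
      ∀ a, IsRoot cs h a → a + sr j = b → v ∉ RGD.Sup X (Lay cs h k \ {a}) → e ≠ 0 := by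
  have hab : ∀ r, IsRoot cs h r → ∀ a ∈ X r, ∀ b ∈ X r, a * b = b * a := by
    intro r hr a ha b hb
    obtain ⟨l, rfl⟩ := ((C r hr).mem a).1 ha
    obtain ⟨m, rfl⟩ := ((C r hr).mem b).1 hb
    rw [← (C r hr).add, ← (C r hr).add, add_comm]
  have BM : Bet cs h (k + 1) (Lay cs h (k + 1) \ {b}) := (bet_lay (by omega)).diff hbk
  have hbP : b ∈ RGD.Pos cs h := lay_sub (k := k + 1) (by omega) ⟨hb, by omega⟩
  have hjP : sr j ∈ RGD.Pos cs h := sr_mem_pos j
  have hxj : ∀ μ, x (sr j) μ ∈ X (sr j) := fun μ => ((C _ hjP.1).mem _).2 ⟨μ, rfl⟩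
  -- the generators other than `a`
  have hgen : ∀ S : Set (I → ℤ), S ⊆ Lay cs h k → (∀ y ∈ S, y + sr j ≠ b) → ∀ μ, ∀ r ∈ RGD.Sup X S,
      ⁅x (sr j) μ, r⁆ ∈ RGD.Sup X (Lay cs h (k + 1) \ {b}) := by
    intro S hS hne μ r hr
    refine comm_mem_of_gen (S := {sr j}) (S' := S) (BM.U_le_normalizer R hs) ?_ ?_ ?_
      (by rw [Sup_one]; exact hxj μ) hr
    · rw [Sup_one]; exact RGD.le_Sup hjP
    · exact RGD.Sup_mono (hS.trans (lay_sub hk))
    · rintro z hz y hy c hc d hd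
      rw [Set.mem_singleton_iff] at hz
      subst hz
      refine comm_root R hs (S := Lay cs h (k + 1) \ {b}) hjP (lay_sub hk (hS hy)) (hab _ hjP.1)
        (fun hcp => ⟨⟨isRoot_add hjP.1 (hS hy).1 hcp, ?_⟩, ?_⟩) hc hd
      · rw [RGD.ht_add, ht_sr]
        have := (hS hy).2
        omega
      · intro h1
        rw [Set.mem_singleton_iff, add_comm] at h1
        exact hne y hy h1
  by_cases hex : ∃ a, IsRoot cs h a ∧ a + sr j = b
  · obtain ⟨a, ha, haj⟩ := hex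
    have hak : ht a = k := by
      have h1 := congrArg ht haj
      rw [RGD.ht_add, ht_sr] at h1
      omega
    have haP : a ∈ RGD.Pos cs h := lay_sub hk ⟨ha, hak.ge⟩
    have hcp : cpr cs h (sr j) a = -1 := cpr_of_add hs hjP haP (by rw [add_comm, haj]; exact hb)
    obtain ⟨N, hN0, hNe⟩ := hN _ _ hjP.1 ha hcp
    obtain ⟨c, hc, r, hr, rfl⟩ := (bet_lay hk).exists_mul R hs (mem_lay ha hak.ge) hak hv
    obtain ⟨l, rfl⟩ := ((C a ha).mem c).1 hc
    refine ⟨N * l, fun μ => ?_, fun a' ha' haj' hv' => ?_⟩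
    · have e : ⁅x (sr j) μ, x a l * r⁆ * (x b (N * l * μ))⁻¹ =
          (⁅x (sr j) μ, x a l⁆ * x a l) * ⁅x (sr j) μ, r⁆ * (⁅x (sr j) μ, x a l⁆ * x a l)⁻¹ *
          (⁅x (sr j) μ, x a l⁆ * (x b (N * l * μ))⁻¹) := by
        simp only [commutatorElement_def]; group
      have e2 : ⁅x (sr j) μ, x a l⁆ * (x b (N * l * μ))⁻¹ = 1 := by
        rw [hNe, mul_inv_eq_one, add_comm (sr j) a, haj]
        congr 1; ring
      rw [e, e2, mul_one]
      refine BM.conj_mem R hs ?_ (hgen _ Set.sdiff_subset ?_ μ r hr)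
      · refine mul_mem ?_ (mem_U R haP hc)
        rw [hNe]
        refine mem_U R hbP ?_
        rw [add_comm (sr j) a, haj]
        exact ((C b hb).mem _).2 ⟨_, rfl⟩
      · rintro y ⟨-, hy⟩ h1
        apply hy
        rw [Set.mem_singleton_iff]
        rw [← haj] at h1
        exact add_right_cancel h1
    · have : a' = a := by
        rw [← haj] at haj'
        exact add_right_cancel haj'
      subst this
      intro h0
      rcases mul_eq_zero.1 h0 with h1 | h1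
      · exact hN0 h1
      · apply hv'
        rw [h1, (C a' ha).zero, one_mul]
        exact hr
  · refine ⟨0, fun μ => ?_, fun a ha haj _ => absurd ⟨a, ha, haj⟩ hex⟩
    rw [zero_mul, (C b hb).zero, inv_one, mul_one]
    exact hgen _ le_rfl (fun y hy h1 => hex ⟨y, hy.1, h1⟩) μ v hv

end

/-! ### Frame involutions with a nontrivial field automorphism -/

/-- A frame involution with a nontrivial field automorphism. -/
structure Fram (T : Subgroup Y) (X : (I → ℤ) → Subgroup Y) (χ : (I → ℤ) → Y → F) (A : I → I → ℤ)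
    (β : MulAut Y) (σ : Equiv.Perm I) (τ : F ≃+* F) : Prop where
  tau : Tau T X χ A β σ τ
  sq : ∀ y, β (β y) = y
  ne : τ ≠ 1

section

variable {β : MulAut Y} {σ : Equiv.Perm I} {τ : F ≃+* F} (H : Fram T X χ A β σ τ)

theorem isRoot_comp (hσ : ∀ i j, M (σ i) (σ j) = M i j) (hA : ∀ i j, A (σ i) (σ j) = A i j) {r : I → ℤ}
    (hr : IsRoot cs h r) : IsRoot cs h (r ∘ σ.symm) := by
  obtain ⟨w, i, rfl⟩ := hr
  rw [← rep_hat hσ hA, sr_comp]
  exact ⟨_, _, rfl⟩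

theorem ht_comp (r : I → ℤ) : ht (r ∘ σ.symm) = ht r := by
  unfold ht
  exact Equiv.sum_comp σ.symm r

include H

theorem Fram.mul_self (R : RGD cs h p T n X) [Finite W] [Nonempty I] (C : Coords cs h T n X x χ) : σ * σ = 1 := by
  have h1 := H.tau.mul H.tau
  have h2 : β * β = 1 := MulEquiv.ext fun y => H.sq y
  rw [h2] at h1
  exact (Tau.unique R C h1 Tau.one).1

theorem Fram.symm_symm (R : RGD cs h p T n X) [Finite W] [Nonempty I] (C : Coords cs h T n X x χ) (i : I) :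
    σ.symm (σ.symm i) = i := by
  have h1 := H.mul_self R C
  have h2 : ∀ j, σ (σ j) = j := fun j => by
    have := congrArg (fun g : Equiv.Perm I => g j) h1
    exact this
  rw [Equiv.symm_apply_eq, Equiv.symm_apply_eq]
  exact (h2 i).symm

theorem Fram.act (R : RGD cs h p T n X) [Finite W] [Nonempty I] (C : Coords cs h T n X x χ) :
    Act cs h X β (fun r => r ∘ σ.symm) where
  sq := H.sq
  inv r := by
    funext i
    show r (σ.symm (σ.symm i)) = r i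
    rw [H.symm_symm R C]
  root r hr := isRoot_comp (H.tau.diag.matrix R) H.tau.cartan hr
  ht r := ht_comp r
  map r hr y hy := (Diag.root_comp R H.tau.diag H.tau.cartan hr y).2 hy

theorem Fram.coh [CharP F 2] (R : RGD cs h p T n X) [Finite W] [Nonempty I] (C : Coords cs h T n X x χ)
    (hs : SL cs h) {k : ℤ} {S : Set (I → ℤ)} (B : Bet cs h k S) (hf : ∀ r ∈ S, r ∘ σ.symm ∈ S) :
    Coh β (RGD.Sup X S) := by
  refine coh_Sup R hs (H.act R C) (fun r hr hfr => ?_) B hf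
  obtain ⟨c, -, hc⟩ := Tau.root R C H.tau hr.1
  have hfr' : r ∘ σ.symm = r := hfr
  rw [hfr'] at hc
  exact coh_coord (C.coord r hr.1) H.sq H.ne hc

theorem Fram.coh_lay [CharP F 2] (R : RGD cs h p T n X) [Finite W] [Nonempty I] (C : Coords cs h T n X x χ)
    (hs : SL cs h) {k : ℤ} (hk : 0 < k) : Coh β (RGD.Sup X (Lay cs h k)) :=
  H.coh R C hs (bet_lay hk) fun r hr =>
    ⟨isRoot_comp (H.tau.diag.matrix R) H.tau.cartan hr.1, by rw [ht_comp]; exact hr.2⟩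

/-- A fixed element of `U` with given image in `X_i X_{σ i}` modulo `[U, U]`. -/
theorem Fram.exists_fix [CharP F 2] (R : RGD cs h p T n X) [Finite W] [Nonempty I] (C : Coords cs h T n X x χ)
    (hs : SL cs h) {i : I} {c : F} (hc : ∀ a, β (x (sr i) a) = x (sr (σ i)) (c * τ a)) (μ : F) :
    ∃ s ∈ RGD.Sup X (Lay cs h 2), β (x (sr i) μ * x (sr (σ i)) (c * τ μ) * s) =
      x (sr i) μ * x (sr (σ i)) (c * τ μ) * s := by
  refine (H.coh_lay R C hs (by norm_num : (0 : ℤ) < 2)).lift H.sq ?_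
  have h1 : β (x (sr (σ i)) (c * τ μ)) = x (sr i) μ := by rw [← hc, H.sq]
  rw [map_mul, h1, ← hc, mul_inv_rev]
  have e : (β (x (sr i) μ))⁻¹ * (x (sr i) μ)⁻¹ * (β (x (sr i) μ) * x (sr i) μ) =
      ⁅(β (x (sr i) μ))⁻¹, (x (sr i) μ)⁻¹⁆ := by rw [commutatorElement_def, inv_inv, inv_inv]; group
  rw [e]
  have hab : ∀ r, IsRoot cs h r → ∀ a ∈ X r, ∀ b ∈ X r, a * b = b * a := by
    intro r hr a ha b hb
    obtain ⟨l, rfl⟩ := ((C.coord r hr).mem a).1 ha
    obtain ⟨m, rfl⟩ := ((C.coord r hr).mem b).1 hb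
    rw [← (C.coord r hr).add, ← (C.coord r hr).add, add_comm]
  have hU : ∀ (i : I) (a : F), x (sr i) a ∈ RGD.Sup X (Lay cs h 1) := fun i a => by
    rw [lay_one]
    exact RGD.le_Sup (sr_mem_pos i) (((C.coord _ (isRoot_sr cs h i)).mem _).2 ⟨a, rfl⟩)
  have h2 := comm_lay R hs hab (k := 1) (l := 1) one_pos one_pos (inv_mem (hc μ ▸ hU (σ i) (c * τ μ)))
    (inv_mem (hU i μ))
  exact h2

theorem Fram.twice (_R : RGD cs h p T n X) [Finite W] [Nonempty I] (C : Coords cs h T n X x χ) {r : I → ℤ}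
    (hr : IsRoot cs h r) (hrσ : r ∘ σ.symm = r) {c : F} (hc : ∀ a, β (x r a) = x (r ∘ σ.symm) (c * τ a)) (a : F) :
    c * τ (c * τ a) = a := by
  rw [hrσ] at hc
  have := H.sq (x r a)
  rw [hc, hc] at this
  exact (C.coord r hr).inj this

/-- One step for the centre. -/
theorem Fram.step [CharP F 2] (R : RGD cs h p T n X) [Finite W] [Nonempty I] (C : Coords cs h T n X x χ)
    (hs : SL cs h) (hN : Str cs h x) {k : ℤ} (hk : 0 < k) {u : Y} (hu : u ∈ RGD.Sup X (Lay cs h k))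
    (hc : ∀ w ∈ RGD.Sup X (RGD.Pos cs h), β w = w → w * u = u * w) {a : I → ℤ} (ha : IsRoot cs h a)
    (hak : ht a = k) {i : I} (hi : IsRoot cs h (a + sr i)) : u ∈ RGD.Sup X (Lay cs h k \ {a}) := by
  by_contra hu'
  obtain ⟨b, hb⟩ : ∃ b, b = a + sr i := ⟨_, rfl⟩
  rw [← hb] at hi
  have hbk : ht b = k + 1 := by rw [hb, RGD.ht_add, ht_sr, hak]
  have hbP : b ∈ RGD.Pos cs h := lay_sub (k := k + 1) (by omega) ⟨hi, by omega⟩
  have BM : Bet cs h (k + 1) (Lay cs h (k + 1) \ {b}) := (bet_lay (by omega)).diff hbk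
  obtain ⟨e, he, hne⟩ := exists_eff R hs C.coord hN hk i hi hbk hu
  obtain ⟨e', he', -⟩ := exists_eff R hs C.coord hN hk (σ i) hi hbk hu
  have he0 : e ≠ 0 := hne a ha hb.symm hu'
  obtain ⟨c, hc0, hcx⟩ := Tau.root R C H.tau (isRoot_sr cs h i)
  have hcx' := hcx
  rw [sr_comp] at hcx'
  have hxU : ∀ (i : I) (a : F), x (sr i) a ∈ RGD.Sup X (RGD.Pos cs h) := fun i a =>
    RGD.le_Sup (sr_mem_pos i) (((C.coord _ (isRoot_sr cs h i)).mem _).2 ⟨a, rfl⟩)
  have hxb : ∀ l, x b l ∈ X b := fun l => ((C.coord b hi).mem _).2 ⟨l, rfl⟩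
  have hb0 : ∀ l, x b l ∈ RGD.Sup X (Lay cs h (k + 1) \ {b}) → l = 0 := by
    intro l hl
    have h1 := X_inf_Sup R hs BM hbP (fun h2 => h2.2 rfl) (hxb l) hl
    by_contra h2
    exact (C.coord b hi).ne_one h2 h1
  by_cases hσi : σ i = i
  · have hrσ : (sr i : I → ℤ) ∘ σ.symm = sr i := by rw [sr_comp, hσi]
    have hcc := H.twice R C (isRoot_sr cs h i) hrσ hcx
    obtain ⟨θ, hθ⟩ := exists_trace H.ne (c := c)
    have hfix : β (x (sr i) (θ + c * τ θ)) = x (sr i) (θ + c * τ θ) := by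
      rw [hcx', hσi]
      congr 1
      rw [map_add, mul_add, hcc]; ring
    have h1 := he (θ + c * τ θ)
    rw [commutatorElement_eq_one_iff_mul_comm.2 (hc _ (hxU _ _) hfix), one_mul] at h1
    have h2 := hb0 _ (by simpa using inv_mem h1)
    rcases mul_eq_zero.1 h2 with h3 | h3
    · exact he0 h3
    · exact hθ h3
  · have hab : ∀ r, IsRoot cs h r → ∀ a ∈ X r, ∀ b ∈ X r, a * b = b * a := by
      intro r hr a ha b hb
      obtain ⟨l, rfl⟩ := ((C.coord r hr).mem a).1 ha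
      obtain ⟨m, rfl⟩ := ((C.coord r hr).mem b).1 hb
      rw [← (C.coord r hr).add, ← (C.coord r hr).add, add_comm]
    have hkey : ∀ μ, e' * (c * τ μ) + e * μ = 0 := by
      intro μ
      apply hb0
      obtain ⟨s, hsm, hsf⟩ := H.exists_fix R C hs hcx' μ
      obtain ⟨q, hq⟩ : ∃ q, q = x (sr (σ i)) (c * τ μ) := ⟨_, rfl⟩
      obtain ⟨r, hr⟩ : ∃ r, r = x (sr i) μ := ⟨_, rfl⟩
      rw [← hq, ← hr] at hsf
      have hqU : q ∈ RGD.Sup X (RGD.Pos cs h) := hq ▸ hxU _ _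
      have hrU : r ∈ RGD.Sup X (RGD.Pos cs h) := hr ▸ hxU _ _
      have hsU : s ∈ RGD.Sup X (RGD.Pos cs h) := RGD.Sup_mono (lay_sub (by norm_num)) hsm
      have h1 : ⁅r * q * s, u⁆ = 1 :=
        commutatorElement_eq_one_iff_mul_comm.2 (hc _ (mul_mem (mul_mem hrU hqU) hsU) hsf)
      have m0 : ⁅s, u⁆ ∈ RGD.Sup X (Lay cs h (k + 1) \ {b}) := by
        refine RGD.Sup_mono ?_ (comm_lay R hs hab (k := 2) (by norm_num) hk hsm hu)
        rintro z ⟨hz, hz2⟩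
        refine ⟨⟨hz, by omega⟩, ?_⟩
        rintro rfl
        omega
      have m1 := he' (c * τ μ)
      have m2 := he μ
      rw [← hq] at m1
      rw [← hr] at m2
      have m3 : ⁅r, x b (e' * (c * τ μ))⁆ ∈ RGD.Sup X (Lay cs h (k + 1) \ {b}) := by
        have h2 := comm_lay R hs hab (k := 1) (l := k + 1) one_pos (by omega) (by rw [lay_one]; exact hrU)
          (RGD.le_Sup (S := Lay cs h (k + 1)) ⟨hi, hbk.ge⟩ (hxb (e' * (c * τ μ))))
        refine RGD.Sup_mono ?_ h2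
        rintro z ⟨hz, hz2⟩
        refine ⟨⟨hz, by omega⟩, ?_⟩
        rintro rfl
        omega
      rw [(C.coord b hi).add]
      obtain ⟨x', hx'⟩ : ∃ x', x' = x b (e' * (c * τ μ)) := ⟨_, rfl⟩
      obtain ⟨x'', hx''⟩ : ∃ x'', x'' = x b (e * μ) := ⟨_, rfl⟩
      have hx'U : x' ∈ RGD.Sup X (RGD.Pos cs h) := hx' ▸ RGD.le_Sup hbP (hxb _)
      rw [← hx'] at m1 m3 ⊢
      rw [← hx''] at m2 ⊢
      have h3 : r * q * ⁅s, u⁆ * (r * q)⁻¹ * (r * (⁅q, u⁆ * x'⁻¹) * r⁻¹) * ⁅r, x'⁆ *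
          (x' * (⁅r, u⁆ * x''⁻¹) * x'⁻¹) * (x' * x'') = 1 := by
        rw [← h1]
        simp only [commutatorElement_def]
        group
      rw [mul_eq_one_iff_inv_eq.1 h3 |>.symm]
      exact inv_mem (mul_mem (mul_mem (mul_mem (BM.conj_mem R hs (mul_mem hrU hqU) m0) (BM.conj_mem R hs hrU m1)) m3)
        (BM.conj_mem R hs hx'U m2))
    have h1 := hkey 1
    rw [map_one, mul_one, mul_one] at h1
    apply H.ne
    ext μ
    have h2 := hkey μ
    have h3 : e' * c = e := by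
      have : e' * c = -e := by linear_combination h1
      rw [this, CharTwo.neg_eq]
    have h4 : e * (τ μ + μ) = 0 := by
      rw [← h2, ← h3]; ring
    have h5 := (mul_eq_zero.1 h4).resolve_left he0
    have h6 : τ μ = -μ := by linear_combination h5
    rw [h6, CharTwo.neg_eq]
    rfl

omit H in
/-- Removing roots of height `k` one at a time. -/
theorem mem_of_forall [Finite W] (R : RGD cs h p T n X) (hs : SL cs h) {k : ℤ} (hk : 0 < k) {u : Y}
    (hu : u ∈ RGD.Sup X (Lay cs h k))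
    (hall : ∀ a, IsRoot cs h a → ht a = k → u ∈ RGD.Sup X (Lay cs h k \ {a})) :
    u ∈ RGD.Sup X (Lay cs h (k + 1)) := by
  have hfin : {a | IsRoot cs h a ∧ ht a = k}.Finite :=
    (RGD.finite_roots (cs := cs) (h := h)).subset fun x hx => hx.1
  have key : ∀ E : Set (I → ℤ), E.Finite → E ⊆ {a | IsRoot cs h a ∧ ht a = k} →
      Bet cs h k (Lay cs h k \ E) ∧ u ∈ RGD.Sup X (Lay cs h k \ E) := by
    intro E hE
    induction E, hE using Set.Finite.induction_on with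
    | empty =>
      intro _
      rw [Set.sdiff_empty]
      exact ⟨bet_lay hk, hu⟩
    | @insert a E ha hE ih =>
      intro hsub
      obtain ⟨B, h1⟩ := ih ((Set.subset_insert a E).trans hsub)
      obtain ⟨ha1, ha2⟩ := hsub (Set.mem_insert a E)
      have h2 := hall a ha1 ha2
      have B2 : Bet cs h k (Lay cs h k \ {a}) := (bet_lay hk).diff ha2
      have h3 : u ∈ RGD.Sup X (Lay cs h k \ E) ⊓ RGD.Sup X (Lay cs h k \ {a}) := ⟨h1, h2⟩
      rw [Sup_inf_Sup R hs B B2] at h3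
      have e : (Lay cs h k \ E) ∩ (Lay cs h k \ {a}) = Lay cs h k \ insert a E := by
        ext z
        simp only [Set.mem_inter_iff, Set.mem_sdiff, Set.mem_singleton_iff, Set.mem_insert_iff]
        tauto
      rw [e] at h3
      refine ⟨?_, h3⟩
      have e2 : Lay cs h k \ insert a E = (Lay cs h k \ E) \ {a} := by
        ext z
        simp only [Set.mem_sdiff, Set.mem_singleton_iff, Set.mem_insert_iff]
        tauto
      rw [e2]
      exact B.diff ha2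
  obtain ⟨-, h1⟩ := key _ hfin le_rfl
  refine RGD.Sup_mono ?_ h1
  rintro z ⟨hz, hz2⟩
  refine ⟨hz.1, ?_⟩
  have h2 := hz.2
  rcases lt_or_eq_of_le h2 with h3 | h3
  · omega
  · exact absurd ⟨hz.1, h3.symm⟩ hz2

end

/-- the highest root -/
structure Highest (cs : CoxeterSystem M W) (h : IsCartan M A) (ρ : I → ℤ) : Prop where
  pos : ρ ∈ RGD.Pos cs h
  up : ∀ a ∈ RGD.Pos cs h, a ≠ ρ → ∃ i, IsRoot cs h (a + sr i)

theorem Highest.ht_le [Finite W] {ρ : I → ℤ} (H : Highest cs h ρ) {a : I → ℤ} (ha : a ∈ RGD.Pos cs h) :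
    ht a ≤ ht ρ ∧ (ht a = ht ρ → a = ρ) := by
  have hfin := RGD.finite_roots (cs := cs) (h := h)
  obtain ⟨m, hm⟩ : ∃ m : ℤ, ∀ a, IsRoot cs h a → ht a ≤ m := by
    obtain ⟨m, hm⟩ := (hfin.image ht).bddAbove
    exact ⟨m, fun a ha => hm ⟨a, ha, rfl⟩⟩
  have key : ∀ (d : ℕ) (a : I → ℤ), a ∈ RGD.Pos cs h → m - ht a = d → ht a ≤ ht ρ ∧ (ht a = ht ρ → a = ρ) := by
    intro d
    induction d using Nat.strong_induction_on with
    | _ d ih =>
    intro a ha hd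
    by_cases haρ : a = ρ
    · subst haρ
      exact ⟨le_rfl, fun _ => rfl⟩
    · obtain ⟨i, hi⟩ := H.up a ha haρ
      have h1 : ht (a + sr i) = ht a + 1 := by rw [RGD.ht_add, ht_sr]
      have h2 := hm _ hi
      have h3 := RGD.ht_pos ha.1 ha.2
      have hP : a + sr i ∈ RGD.Pos cs h := ⟨hi, pos_of_ht hi (by omega)⟩
      obtain ⟨h4, -⟩ := ih (d - 1) (by omega) _ hP (by omega)
      exact ⟨by omega, fun h5 => by omega⟩
  exact key (m - ht a).toNat a ha (by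
    have := hm a ha.1
    omega)

section

variable {β : MulAut Y} {σ : Equiv.Perm I} {τ : F ≃+* F} (H : Fram T X χ A β σ τ)

include H

/-- **`Z(C_U(β)) ≤ X ρ`** -/
theorem Fram.center [CharP F 2] (R : RGD cs h p T n X) [Finite W] [Nonempty I] (C : Coords cs h T n X x χ)
    (hs : SL cs h) (hN : Str cs h x) {ρ : I → ℤ} (hρ : Highest cs h ρ) {u : Y} (hu : u ∈ RGD.Sup X (RGD.Pos cs h))
    (hc : ∀ w ∈ RGD.Sup X (RGD.Pos cs h), β w = w → w * u = u * w) : u ∈ X ρ := by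
  have hpos := RGD.ht_pos hρ.pos.1 hρ.pos.2
  have key : ∀ d : ℕ, (d : ℤ) + 1 ≤ ht ρ → u ∈ RGD.Sup X (Lay cs h (d + 1)) := by
    intro d
    induction d with
    | zero =>
      intro _
      rw [Nat.cast_zero, zero_add, lay_one]
      exact hu
    | succ d ih =>
      intro hd
      have h1 := ih (by push_cast at hd; omega)
      have h2 : u ∈ RGD.Sup X (Lay cs h ((d : ℤ) + 1 + 1)) := by
        refine mem_of_forall R hs (by omega) h1 fun a ha hak => ?_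
        have haP : a ∈ RGD.Pos cs h := ⟨ha, pos_of_ht ha (by omega)⟩
        have haρ : a ≠ ρ := by
          rintro rfl
          push_cast at hd
          omega
        obtain ⟨i, hi⟩ := hρ.up a haP haρ
        exact H.step R C hs hN (by omega) h1 hc ha hak hi
      rw [Nat.cast_succ]
      exact h2
  have h1 := key (ht ρ - 1).toNat (by omega)
  have h2 : Lay cs h (((ht ρ - 1).toNat : ℤ) + 1) ⊆ {ρ} := by
    rintro z ⟨hz, hz2⟩
    have hzP : z ∈ RGD.Pos cs h := ⟨hz, pos_of_ht hz (by omega)⟩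
    obtain ⟨h3, h4⟩ := hρ.ht_le hzP
    exact h4 (by omega)
  rw [← Sup_one (X := X) ρ]
  exact RGD.Sup_mono h2 h1

end

end Cfsg.Agent.KFacts.RgdFld.Center

end

-- merged: Cfsg.Agent.KFacts.RgdFld.SigTau
section

/-!
# Frame automorphisms which are trivial on `C_U(β)` modulo `[U, U]`

* `Cmp` : the components of an element of `U` modulo `[U, U]`;
* `Fram.sig_tau` : such an automorphism has `(σ₁, τ₁) = (1, 1)` or `(σ, τ)`.
-/

set_option autoImplicit false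
set_option linter.unusedSectionVars false

namespace Cfsg.Agent.KFacts.RgdFld.SigTau

open CoxeterSystem Cfsg.Agent.ChevalleyStructure.CoxeterGeom Cfsg.Agent.Tits.Roots Cfsg.Agent.Tits.Core
  Cfsg.Agent.Tits.Exchange Cfsg.Agent.Nodes.Reps Cfsg.Agent.Nodes.BNOf Cfsg.Agent.Nodes.StabComb
  Cfsg.Agent.Nodes.Bruhat Cfsg.Agent.Nodes.OppDec Cfsg.Agent.Nodes.PosPair Cfsg.Agent.Nodes.Coroot
  Cfsg.Agent.KFacts.RgdSL Cfsg.Agent.KFacts.RgdAut Cfsg.Agent.KFacts.RgdDiag Cfsg.Agent.KFacts.RgdFixU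
  Cfsg.Agent.KFacts.RgdFld.Layer Cfsg.Agent.KFacts.RgdField Cfsg.Agent.KFacts.RgdTau Cfsg.Agent.KFacts.RgdFld.Coh
  Cfsg.Agent.KFacts.RgdFld.Center
open scoped commutatorElement

variable {I W Y : Type*} [Fintype I] [DecidableEq I] [Group W] [Group Y] {M : CoxeterMatrix I}
  {cs : CoxeterSystem M W} {A : I → I → ℤ} {h : IsCartan M A} {p : ℕ} {T : Subgroup Y} {n : I → Y}
  {X : (I → ℤ) → Subgroup Y} {F : Type*} [Field F] {x : (I → ℤ) → F → Y} {χ : (I → ℤ) → Y → F}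

/-- The component of `w` at the node `l`. -/
def Cmp (cs : CoxeterSystem M W) (h : IsCartan M A) (X : (I → ℤ) → Subgroup Y) (x : (I → ℤ) → F → Y) (l : I)
    (w : Y) (a : F) : Prop := (x (sr l) a)⁻¹ * w ∈ RGD.Sup X (RGD.PosNe cs h l)

/-- An automorphism of a field which is trivial on the fixed field of an involution. -/
theorem eq_one_or_eq {τ τ₁ : F ≃+* F} (hτ2 : ∀ a, τ (τ a) = a) (hτ : τ ≠ 1) (h1 : ∀ a, τ a = a → τ₁ a = a) :
    τ₁ = 1 ∨ τ₁ = τ := by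
  obtain ⟨θ, hθ⟩ : ∃ θ, τ θ ≠ θ := by
    by_contra hcon
    push Not at hcon
    exact hτ (RingEquiv.ext hcon)
  have h0 : θ - τ θ ≠ 0 := fun h2 => hθ (sub_eq_zero.1 h2).symm
  have hroot : (τ₁ θ - θ) * (τ₁ θ - τ θ) = 0 := by
    have h2 := h1 (θ + τ θ) (by rw [map_add, hτ2]; ring)
    have h3 := h1 (θ * τ θ) (by rw [map_mul, hτ2]; ring)
    rw [map_add] at h2
    rw [map_mul] at h3
    have h4 : τ₁ (τ θ) = θ + τ θ - τ₁ θ := by linear_combination h2
    rw [h4] at h3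
    linear_combination -h3
  -- decomposition over the fixed field
  have hdec : ∀ a, ∃ u v, τ u = u ∧ τ v = v ∧ a = u + v * θ := by
    intro a
    refine ⟨a - (a - τ a) / (θ - τ θ) * θ, (a - τ a) / (θ - τ θ), ?_, ?_, by ring⟩
    · have h2 : τ ((a - τ a) / (θ - τ θ)) = (a - τ a) / (θ - τ θ) := by
        rw [map_div₀, map_sub, map_sub, hτ2, hτ2, ← neg_sub a, ← neg_sub θ, neg_div_neg_eq]
      rw [map_sub, map_mul, h2]
      field_simp
      ring
    · rw [map_div₀, map_sub, map_sub, hτ2, hτ2, ← neg_sub a, ← neg_sub θ, neg_div_neg_eq]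
  rcases mul_eq_zero.1 hroot with h2 | h2
  · left
    ext a
    obtain ⟨u, v, hu, hv, rfl⟩ := hdec a
    rw [map_add, map_mul, h1 u hu, h1 v hv, sub_eq_zero.1 h2]
    rfl
  · right
    ext a
    obtain ⟨u, v, hu, hv, rfl⟩ := hdec a
    rw [map_add, map_mul, h1 u hu, h1 v hv, sub_eq_zero.1 h2, map_add, map_mul, hu, hv]

section

variable (R : RGD cs h p T n X) [Finite W] (C : Coords cs h T n X x χ)

include R C

theorem x_mem (i : I) (a : F) : x (sr i) a ∈ X (sr i) := ((C.coord _ (isRoot_sr cs h i)).mem _).2 ⟨a, rfl⟩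

theorem x_mem_U (i : I) (a : F) : x (sr i) a ∈ RGD.Sup X (RGD.Pos cs h) :=
  RGD.le_Sup (sr_mem_pos i) (x_mem R C i a)

theorem x_mem_ne {i l : I} (hil : i ≠ l) (a : F) : x (sr i) a ∈ RGD.Sup X (RGD.PosNe cs h l) := by
  refine RGD.le_Sup (S := RGD.PosNe cs h l) ⟨isRoot_sr cs h i, sr_nonneg i, fun h1 => ?_⟩ (x_mem R C i a)
  have h2 := congrFun h1 i
  rw [sr_self, sr_ne hil] at h2
  exact one_ne_zero h2

theorem lay_two_le (l : I) : RGD.Sup X (Lay cs h 2) ≤ RGD.Sup X (RGD.PosNe cs h l) := by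
  refine RGD.Sup_mono fun z hz => ⟨hz.1, (lay_sub (by norm_num) hz).2, ?_⟩
  rintro rfl
  have h1 := hz.2
  rw [ht_sr] at h1
  omega

theorem Cmp.unique {l : I} {w : Y} {a b : F} (h1 : Cmp cs h X x l w a) (h2 : Cmp cs h X x l w b) : a = b := by
  have hx := C.coord _ (isRoot_sr cs h l)
  have h3 : x (sr l) (a - b) ∈ RGD.Sup X (RGD.PosNe cs h l) := by
    have e : x (sr l) (a - b) = (x (sr l) a * (x (sr l) b)⁻¹) := by
      rw [eq_mul_inv_iff_mul_eq, ← hx.add, sub_add_cancel]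
    have hU : x (sr l) a ∈ Subgroup.normalizer (RGD.Sup X (RGD.PosNe cs h l) : Set Y) :=
      U_le_normalizer_V R l (x_mem_U R C l a)
    have h4 : (x (sr l) a)⁻¹ * w * ((x (sr l) b)⁻¹ * w)⁻¹ ∈ RGD.Sup X (RGD.PosNe cs h l) := mul_mem h1 (inv_mem h2)
    have h5 := (Subgroup.mem_normalizer_iff.1 hU _).1 h4
    have e2 : x (sr l) a * ((x (sr l) a)⁻¹ * w * ((x (sr l) b)⁻¹ * w)⁻¹) * (x (sr l) a)⁻¹ =
        x (sr l) b * (x (sr l) a)⁻¹ := by group
    rw [e2] at h5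
    have h6 := inv_mem h5
    rw [mul_inv_rev, inv_inv] at h6
    rwa [e]
  have h4 := eq_one_of_mem_PosNe R (x_mem R C l _) h3
  by_contra hab
  exact hx.ne_one (sub_ne_zero.2 hab) h4

theorem Cmp.mul {l : I} {w w' : Y} {a a' : F} (h1 : Cmp cs h X x l w a) (h2 : Cmp cs h X x l w' a') :
    Cmp cs h X x l (w * w') (a + a') := by
  have hx := C.coord _ (isRoot_sr cs h l)
  have hU : x (sr l) a' ∈ Subgroup.normalizer (RGD.Sup X (RGD.PosNe cs h l) : Set Y) :=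
    U_le_normalizer_V R l (x_mem_U R C l a')
  have h3 := (Subgroup.mem_normalizer_iff.1 (inv_mem hU) _).1 h1
  have h4 := mul_mem h3 h2
  unfold Cmp
  have e : (x (sr l) (a + a'))⁻¹ * (w * w') =
      (x (sr l) a')⁻¹ * ((x (sr l) a)⁻¹ * w) * ((x (sr l) a')⁻¹)⁻¹ * ((x (sr l) a')⁻¹ * w') := by
    rw [hx.add]; group
  rw [e]
  exact h4

theorem cmp_self (l : I) (a : F) : Cmp cs h X x l (x (sr l) a) a := by
  unfold Cmp
  rw [inv_mul_cancel]
  exact one_mem _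

theorem cmp_of_mem {l : I} {w : Y} (hw : w ∈ RGD.Sup X (RGD.PosNe cs h l)) : Cmp cs h X x l w 0 := by
  unfold Cmp
  rw [(C.coord _ (isRoot_sr cs h l)).zero, inv_one, one_mul]
  exact hw

theorem map_lay {γ : MulAut Y} {σ₁ : Equiv.Perm I} {τ₁ : F ≃+* F} (S₁ : Tau T X χ A γ σ₁ τ₁) {k : ℤ} {s : Y}
    (hs : s ∈ RGD.Sup X (Lay cs h k)) : γ s ∈ RGD.Sup X (Lay cs h k) := by
  have h1 : RGD.Sup X (Lay cs h k) ≤ (RGD.Sup X (Lay cs h k)).comap γ.toMonoidHom := by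
    refine RGD.Sup_le fun r hr y hy => ?_
    refine RGD.le_Sup (S := Lay cs h k) ⟨isRoot_comp (S₁.diag.matrix R) S₁.cartan hr.1, ?_⟩
      ((Diag.root_comp R S₁.diag S₁.cartan hr.1 y).2 hy)
    rw [ht_comp]
    exact hr.2
  exact h1 hs

end

section

variable {β : MulAut Y} {σ : Equiv.Perm I} {τ : F ≃+* F} (H : Fram T X χ A β σ τ)

include H

theorem Fram.sig_tau [CharP F 2] (R : RGD cs h p T n X) [Finite W] [Nonempty I] (C : Coords cs h T n X x χ)
    (hs : SL cs h) {γ : MulAut Y} {σ₁ : Equiv.Perm I} {τ₁ : F ≃+* F} (S₁ : Tau T X χ A γ σ₁ τ₁)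
    (hγ : ∀ w ∈ RGD.Sup X (RGD.Pos cs h), β w = w → γ w * w⁻¹ ∈ RGD.Sup X (Lay cs h 2)) :
    (σ₁ = 1 ∧ τ₁ = 1) ∨ (σ₁ = σ ∧ τ₁ = τ) := by
  have hcmp : ∀ {l w a}, w ∈ RGD.Sup X (RGD.Pos cs h) → β w = w → Cmp cs h X x l w a → Cmp cs h X x l (γ w) a := by
    intro l w a hw hβw h1
    have h2 := (cmp_of_mem R C (lay_two_le R C l (hγ w hw hβw))).mul R C h1
    rwa [inv_mul_cancel_right, zero_add] at h2
  -- the nodes fixed by `σ`
  have hfix : ∀ i, σ i = i → σ₁ i = i ∧ ∀ f, τ f = f → τ₁ f = f := by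
    intro i hi
    obtain ⟨c, -, hcx⟩ := Tau.root R C H.tau (isRoot_sr cs h i)
    have hrσ : (sr i : I → ℤ) ∘ σ.symm = sr i := by rw [sr_comp, hi]
    have hcc := H.twice R C (isRoot_sr cs h i) hrσ hcx
    rw [sr_comp, hi] at hcx
    obtain ⟨θ, hθ⟩ := exists_trace H.ne (c := c)
    obtain ⟨m, hm⟩ : ∃ m, m = θ + c * τ θ := ⟨_, rfl⟩
    rw [← hm] at hθ
    have hm2 : c * τ m = m := by
      rw [hm, map_add, mul_add, hcc]; ring
    obtain ⟨c₁, hc₁, hcx₁⟩ := Tau.root R C S₁ (isRoot_sr cs h i)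
    rw [sr_comp] at hcx₁
    have hw : ∀ f, τ f = f → β (x (sr i) (f * m)) = x (sr i) (f * m) := by
      intro f hf
      rw [hcx, map_mul, hf]
      congr 1
      rw [← mul_assoc, mul_comm c f, mul_assoc, hm2]
    have h1 : σ₁ i = i := by
      by_contra hne
      have h2 := hcmp (x_mem_U R C i _) (hw 1 (map_one τ)) (cmp_self R C i _)
      rw [hcx₁] at h2
      have h3 := cmp_of_mem R C (x_mem_ne R C hne (c₁ * τ₁ (1 * m)))
      have h4 := h2.unique R C h3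
      rw [one_mul] at h4
      exact hθ h4
    refine ⟨h1, fun f hf => ?_⟩
    rw [h1] at hcx₁
    have key : ∀ f, τ f = f → c₁ * τ₁ (f * m) = f * m := by
      intro f hf
      have h2 := hcmp (x_mem_U R C i _) (hw f hf) (cmp_self R C i _)
      rw [hcx₁] at h2
      exact (cmp_self R C i _).unique R C h2
    have h2 := key 1 (map_one τ)
    rw [one_mul] at h2
    have h3 := key f hf
    rw [map_mul, ← mul_assoc, mul_comm c₁, mul_assoc, h2] at h3
    exact mul_right_cancel₀ hθ h3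
  -- the other nodes
  have hmov : ∀ i, σ i ≠ i → (σ₁ i = i ∧ τ₁ = 1) ∨ (σ₁ i = σ i ∧ τ₁ = τ) := by
    intro i hi
    obtain ⟨c, hc0, hcx⟩ := Tau.root R C H.tau (isRoot_sr cs h i)
    rw [sr_comp] at hcx
    obtain ⟨c₁, hc₁, hcx₁⟩ := Tau.root R C S₁ (isRoot_sr cs h i)
    rw [sr_comp] at hcx₁
    obtain ⟨c₂, hc₂, hcx₂⟩ := Tau.root R C S₁ (isRoot_sr cs h (σ i))
    rw [sr_comp] at hcx₂
    have hne : σ₁ (σ i) ≠ σ₁ i := fun h1 => hi (σ₁.injective h1)
    have key : ∀ μ, ∀ a, (∀ s ∈ RGD.Sup X (Lay cs h 2),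
        Cmp cs h X x (σ₁ i) (x (sr i) μ * x (sr (σ i)) (c * τ μ) * s) a) → c₁ * τ₁ μ = a := by
      intro μ a ha
      obtain ⟨s, hsm, hsf⟩ := H.exists_fix R C hs hcx μ
      have hwU : x (sr i) μ * x (sr (σ i)) (c * τ μ) * s ∈ RGD.Sup X (RGD.Pos cs h) :=
        mul_mem (mul_mem (x_mem_U R C _ _) (x_mem_U R C _ _)) (RGD.Sup_mono (lay_sub (by norm_num)) hsm)
      have h1 := hcmp hwU hsf (ha s hsm)
      rw [map_mul, map_mul, hcx₁, hcx₂] at h1
      have h2 := ((cmp_self R C (σ₁ i) (c₁ * τ₁ μ)).mul R C (cmp_of_mem R C (x_mem_ne R C hne (c₂ * τ₁ (c * τ μ))))).mul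
        R C (cmp_of_mem R C (lay_two_le R C (σ₁ i) (map_lay R C S₁ hsm)))
      rw [add_zero, add_zero] at h2
      exact h2.unique R C h1
    have hs0 : ∀ l s, s ∈ RGD.Sup X (Lay cs h 2) → Cmp cs h X x l s 0 := fun l s hsm =>
      cmp_of_mem R C (lay_two_le R C l hsm)
    by_cases h1 : σ₁ i = i
    · left
      refine ⟨h1, ?_⟩
      have h2 : ∀ μ, c₁ * τ₁ μ = μ := by
        intro μ
        refine key μ μ fun s hsm => ?_
        rw [h1]
        have h3 := ((cmp_self R C i μ).mul R C (cmp_of_mem R C (x_mem_ne R C hi (c * τ μ)))).mul R C (hs0 i s hsm)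
        rwa [add_zero, add_zero] at h3
      have h3 : c₁ = 1 := by
        have := h2 1
        rwa [map_one, mul_one] at this
      ext μ
      have := h2 μ
      rw [h3, one_mul] at this
      rw [this]
      rfl
    by_cases h2 : σ₁ i = σ i
    · right
      refine ⟨h2, ?_⟩
      have h3 : ∀ μ, c₁ * τ₁ μ = c * τ μ := by
        intro μ
        refine key μ _ fun s hsm => ?_
        rw [h2]
        have h3 := ((cmp_of_mem R C (x_mem_ne R C (Ne.symm hi) μ)).mul R C (cmp_self R C (σ i) (c * τ μ))).mul R C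
          (hs0 _ s hsm)
        rwa [zero_add, add_zero] at h3
      have h4 : c₁ = c := by
        have := h3 1
        rwa [map_one, map_one, mul_one, mul_one] at this
      ext μ
      have := h3 μ
      rw [h4] at this
      exact mul_left_cancel₀ hc0 this
    · exfalso
      have h3 : c₁ * τ₁ 1 = 0 := by
        refine key 1 0 fun s hsm => ?_
        have h3 := ((cmp_of_mem R C (x_mem_ne R C (Ne.symm h1) 1)).mul R C
          (cmp_of_mem R C (x_mem_ne R C (Ne.symm h2) (c * τ 1)))).mul R C (hs0 _ s hsm)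
        rwa [add_zero, add_zero] at h3
      rw [map_one, mul_one] at h3
      exact hc₁ h3
  by_cases hσ : ∀ i, σ i = i
  · have hσ1 : σ = 1 := Equiv.ext hσ
    obtain ⟨i₀⟩ := ‹Nonempty I›
    have h1 : σ₁ = 1 := Equiv.ext fun i => (hfix i (hσ i)).1
    have hτ2 : ∀ a, τ (τ a) = a := by
      have h2 := H.tau.mul H.tau
      have h3 : β * β = 1 := MulEquiv.ext fun y => H.sq y
      rw [h3] at h2
      have h4 := (Tau.unique R C h2 Tau.one).2
      intro a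
      exact congrArg (fun g : F ≃+* F => g a) h4
    rcases eq_one_or_eq hτ2 H.ne (hfix i₀ (hσ i₀)).2 with h2 | h2
    · exact Or.inl ⟨h1, h2⟩
    · exact Or.inr ⟨h1.trans hσ1.symm, h2⟩
  · push Not at hσ
    obtain ⟨i₀, hi₀⟩ := hσ
    rcases hmov i₀ hi₀ with ⟨-, h1⟩ | ⟨-, h1⟩
    · left
      refine ⟨Equiv.ext fun i => ?_, h1⟩
      by_cases hi : σ i = i
      · exact (hfix i hi).1
      · rcases hmov i hi with ⟨h2, -⟩ | ⟨-, h2⟩
        · exact h2
        · exact absurd (h2.symm.trans h1) H.ne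
    · right
      refine ⟨Equiv.ext fun i => ?_, h1⟩
      by_cases hi : σ i = i
      · rw [(hfix i hi).1, hi]
      · rcases hmov i hi with ⟨-, h2⟩ | ⟨h2, -⟩
        · exact absurd (h1.symm.trans h2) H.ne
        · exact h2

end

end Cfsg.Agent.KFacts.RgdFld.SigTau

end

-- merged: Cfsg.Agent.KFacts.RgdFld.Der
section

/-!
# `C_{X ρ}(β) ≤ [C_U(β), C_U(β)]`
-/

set_option autoImplicit false
set_option linter.unusedSectionVars false

namespace Cfsg.Agent.KFacts.RgdFld.Der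

open CoxeterSystem Cfsg.Agent.ChevalleyStructure.CoxeterGeom Cfsg.Agent.Tits.Roots Cfsg.Agent.Tits.Core
  Cfsg.Agent.Tits.Exchange Cfsg.Agent.Nodes.Reps Cfsg.Agent.Nodes.BNOf Cfsg.Agent.Nodes.StabComb
  Cfsg.Agent.Nodes.Bruhat Cfsg.Agent.Nodes.OppDec Cfsg.Agent.Nodes.PosPair Cfsg.Agent.Nodes.Coroot
  Cfsg.Agent.KFacts.RgdSL Cfsg.Agent.KFacts.RgdAut Cfsg.Agent.KFacts.RgdDiag
  Cfsg.Agent.KFacts.RgdFld.Layer Cfsg.Agent.KFacts.RgdField Cfsg.Agent.KFacts.RgdTau Cfsg.Agent.KFacts.RgdFld.Coh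
  Cfsg.Agent.KFacts.RgdFld.Center
open scoped commutatorElement

variable {I W Y : Type*} [Fintype I] [DecidableEq I] [Group W] [Group Y] {M : CoxeterMatrix I}
  {cs : CoxeterSystem M W} {A : I → I → ℤ} {h : IsCartan M A} {p : ℕ} {T : Subgroup Y} {n : I → Y}
  {X : (I → ℤ) → Subgroup Y} {F : Type*} [Field F] {x : (I → ℤ) → F → Y} {χ : (I → ℤ) → Y → F}

/-- `C_U(β)` -/
def CU (cs : CoxeterSystem M W) (h : IsCartan M A) (X : (I → ℤ) → Subgroup Y) (β : MulAut Y) : Subgroup Y where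
  carrier := {w | w ∈ RGD.Sup X (RGD.Pos cs h) ∧ β w = w}
  mul_mem' := fun ha hb => ⟨mul_mem ha.1 hb.1, by rw [map_mul, ha.2, hb.2]⟩
  one_mem' := ⟨one_mem _, map_one β⟩
  inv_mem' := fun ha => ⟨inv_mem ha.1, by rw [map_inv, ha.2]⟩

theorem mem_CU {β : MulAut Y} {w : Y} : w ∈ CU cs h X β ↔ w ∈ RGD.Sup X (RGD.Pos cs h) ∧ β w = w := Iff.rfl

theorem cpr_sub' [Finite W] {x y z : I → ℤ} (hz : IsRoot cs h z) :
    cpr cs h (x - y) z = cpr cs h x z - cpr cs h y z := by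
  rw [sub_eq_add_neg, cpr_add cs h _ _ hz, cpr_neg cs h _ hz]; ring

theorem ht_ne_zero {a : I → ℤ} (ha : IsRoot cs h a) : ht a ≠ 0 := by
  rcases ha.pos_or_neg with h1 | h1
  · exact (RGD.ht_pos ha h1).ne'
  · have h2 := RGD.ht_pos ha.neg (neg_nonneg.2 h1)
    have h3 : ht (-a) = -ht a := by
      have := RGD.ht_smul (-1) a
      rw [neg_one_smul] at this
      rw [this]; ring
    omega

theorem ab_of_coords (C : ∀ r, IsRoot cs h r → Coord T (X r) (x r) (χ r)) : ∀ r, IsRoot cs h r →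
    ∀ a ∈ X r, ∀ b ∈ X r, a * b = b * a := by
  intro r hr a ha b hb
  obtain ⟨l, rfl⟩ := ((C r hr).mem a).1 ha
  obtain ⟨m, rfl⟩ := ((C r hr).mem b).1 hb
  rw [← (C r hr).add, ← (C r hr).add, add_comm]

/-- `X ρ` is central in `U`. -/
theorem central [Finite W] (R : RGD cs h p T n X) (hs : SL cs h)
    (hab : ∀ r, IsRoot cs h r → ∀ a ∈ X r, ∀ b ∈ X r, a * b = b * a) {ρ : I → ℤ} (hρ : Highest cs h ρ) {z u : Y}
    (hz : z ∈ X ρ) (hu : u ∈ RGD.Sup X (RGD.Pos cs h)) : z * u = u * z := by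
  have hpos := RGD.ht_pos hρ.pos.1 hρ.pos.2
  have h1 := comm_lay R hs hab (k := ht ρ) (l := 1) hpos one_pos
    (RGD.le_Sup (S := Lay cs h (ht ρ)) ⟨hρ.pos.1, le_rfl⟩ hz) (by rw [lay_one]; exact hu)
  have h2 : Lay cs h (ht ρ + 1) = ∅ := by
    rw [Set.eq_empty_iff_forall_notMem]
    rintro a ⟨ha, ha2⟩
    have h3 := (hρ.ht_le ⟨ha, pos_of_ht ha (by omega)⟩).1
    omega
  rw [h2, Sup_empty, Subgroup.mem_bot] at h1
  exact commutatorElement_eq_one_iff_mul_comm.1 h1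

section

variable {β : MulAut Y} {σ : Equiv.Perm I} {τ : F ≃+* F} (H : Fram T X χ A β σ τ)

include H

theorem Fram.rho_comp (R : RGD cs h p T n X) [Finite W] {ρ : I → ℤ} (hρ : Highest cs h ρ) : ρ ∘ σ.symm = ρ := by
  have h1 := isRoot_comp (H.tau.diag.matrix R) H.tau.cartan hρ.pos.1
  have h2 : ht (ρ ∘ σ.symm) = ht ρ := ht_comp ρ
  have h3 := RGD.ht_pos hρ.pos.1 hρ.pos.2
  exact (hρ.ht_le ⟨h1, pos_of_ht h1 (by omega)⟩).2 h2

/-- The fixed points on a root group fixed by `β`. -/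
theorem Fram.exists_fixed (R : RGD cs h p T n X) [Finite W] [Nonempty I] [CharP F 2] (C : Coords cs h T n X x χ)
    {r : I → ℤ} (hr : IsRoot cs h r) (hrσ : r ∘ σ.symm = r) : ∃ c m : F, c ≠ 0 ∧ m ≠ 0 ∧ c * τ m = m ∧
      ∀ a, β (x r a) = x r (c * τ a) := by
  obtain ⟨c, hc, hcx⟩ := Tau.root R C H.tau hr
  have hcc := H.twice R C hr hrσ hcx
  rw [hrσ] at hcx
  obtain ⟨θ, hθ⟩ := exists_trace H.ne (c := c)
  exact ⟨c, θ + c * τ θ, hc, hθ, by rw [map_add, mul_add, hcc]; ring, hcx⟩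

/-- **`C_{X ρ}(β) ≤ [C_U(β), C_U(β)]`** -/
theorem Fram.der (R : RGD cs h p T n X) [Finite W] [Nonempty I] [CharP F 2] (C : Coords cs h T n X x χ)
    (hs : SL cs h) (hN : Str cs h x) {ρ : I → ℤ} (hρ : Highest cs h ρ) {i : I} (hi : cpr cs h ρ (sr i) = 1)
    (hσi : σ i = i ∨ cpr cs h (sr i) (sr (σ i)) = 0) {z : Y} (hz : z ∈ X ρ) (hβz : β z = z) :
    z ∈ ⁅CU cs h X β, CU cs h X β⁆ := by
  have hab := ab_of_coords C.coord
  have hri := isRoot_sr cs h i
  have hρσ := Fram.rho_comp H R hρ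
  have hb : IsRoot cs h (ρ - sr i) := isRoot_sub hρ.pos.1 hri hi
  have hbk : ht (ρ - sr i) + 1 = ht ρ := by
    have h1 := RGD.ht_add (ρ - sr i) (sr i)
    rw [sub_add_cancel, ht_sr] at h1
    exact h1.symm
  have hbP : ρ - sr i ∈ RGD.Pos cs h := by
    refine ⟨hb, pos_of_ht hb ?_⟩
    have h1 := ht_ne_zero hb
    have h2 := RGD.ht_pos hρ.pos.1 hρ.pos.2
    omega
  have hcab : cpr cs h (sr i) (ρ - sr i) = -1 :=
    cpr_of_add hs (sr_mem_pos i) hbP (by rw [add_sub_cancel]; exact hρ.pos.1)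
  obtain ⟨N, hN0, hNe⟩ := hN _ _ hri hb hcab
  rw [add_sub_cancel] at hNe
  obtain ⟨cρ, -, hcρ⟩ := Tau.root R C H.tau hρ.pos.1
  rw [hρσ] at hcρ
  obtain ⟨l, rfl⟩ := ((C.coord ρ hρ.pos.1).mem z).1 hz
  have hl : cρ * τ l = l := by
    rw [hcρ] at hβz
    exact (C.coord ρ hρ.pos.1).inj hβz
  have hxb : ∀ {r : I → ℤ}, r ∈ RGD.Pos cs h → ∀ a, x r a ∈ RGD.Sup X (RGD.Pos cs h) := fun hr a =>
    RGD.le_Sup hr (((C.coord _ hr.1).mem _).2 ⟨a, rfl⟩)
  by_cases hfi : σ i = i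
  · have h1 : (sr i : I → ℤ) ∘ σ.symm = sr i := by rw [sr_comp, hfi]
    have h2 : (ρ - sr i) ∘ σ.symm = ρ - sr i := by
      show ρ ∘ σ.symm - sr i ∘ σ.symm = _
      rw [hρσ, h1]
    obtain ⟨ca, ma, -, hma, hca, hcax⟩ := Fram.exists_fixed H R C hri h1
    obtain ⟨cb, mb, -, hmb, hcb, hcbx⟩ := Fram.exists_fixed H R C hb h2
    have h3 : cρ * τ (N * ma * mb) = N * ma * mb := by
      have h4 := congrArg β (hNe ma mb)
      rw [map_commutatorElement, hcax, hcbx, hca, hcb, hNe, hcρ] at h4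
      exact ((C.coord ρ hρ.pos.1).inj h4).symm
    have hk : N * ma * mb ≠ 0 := mul_ne_zero (mul_ne_zero hN0 hma) hmb
    have hcρ0 : cρ ≠ 0 := by
      rintro rfl
      rw [zero_mul] at h3
      exact hk h3.symm
    obtain ⟨f, hf⟩ : ∃ f, f = l / (N * ma * mb) := ⟨_, rfl⟩
    have hτf : τ f = f := by
      rw [hf, map_div₀]
      have h4 : τ (N * ma * mb) ≠ 0 := fun h4 => hk ((map_eq_zero τ).1 h4)
      rw [div_eq_div_iff h4 hk]
      apply mul_left_cancel₀ hcρ0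
      calc cρ * (τ l * (N * ma * mb)) = cρ * τ l * (N * ma * mb) := by ring
        _ = l * (cρ * τ (N * ma * mb)) := by rw [hl, h3]
        _ = cρ * (l * τ (N * ma * mb)) := by ring
    have h4 : x ρ l = ⁅x (sr i) (f * ma), x (ρ - sr i) mb⁆ := by
      rw [hNe, hf]
      congr 1
      field_simp
    rw [h4]
    refine Subgroup.commutator_mem_commutator ⟨hxb (sr_mem_pos i) _, ?_⟩ ⟨hxb hbP _, ?_⟩
    · rw [hcax, map_mul, hτf, mul_left_comm, hca]
    · rw [hcbx, hcb]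
  · have hcp := hσi.resolve_left hfi
    have hrj := isRoot_sr cs h (σ i)
    have hcp' : cpr cs h (sr (σ i)) (sr i) = 0 := by rw [hs _ _ hrj hri]; exact hcp
    have hne : (sr i : I → ℤ) ≠ sr (σ i) := by
      intro h1
      have h2 := congrFun h1 i
      rw [sr_self, sr_ne (Ne.symm hfi)] at h2
      exact one_ne_zero h2
    have hcomp : (ρ - sr i) ∘ σ.symm = ρ - sr (σ i) := by
      show ρ ∘ σ.symm - sr i ∘ σ.symm = _
      rw [hρσ, sr_comp]
    have hb' : IsRoot cs h (ρ - sr (σ i)) := by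
      rw [← hcomp]
      exact isRoot_comp (H.tau.diag.matrix R) H.tau.cartan hb
    have hb'P : ρ - sr (σ i) ∈ RGD.Pos cs h := by
      refine ⟨hb', pos_of_ht hb' ?_⟩
      have h1 := RGD.ht_add (ρ - sr (σ i)) (sr (σ i))
      rw [sub_add_cancel, ht_sr] at h1
      have h2 := (RGD.ht_pos hb hbP.2)
      omega
    have hj : cpr cs h ρ (sr (σ i)) = 1 := by
      have h1 := pairing_comp H.tau.cartan i ρ
      rw [hρσ] at h1
      rw [cpr_sr, h1, ← cpr_sr cs h, hi]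
    -- Cartan numbers
    have k1 : cpr cs h (sr i) (ρ - sr (σ i)) = 1 := by
      rw [hs _ _ hri hb', cpr_sub' hri, hi, hcp', sub_zero]
    have k2 : cpr cs h (sr (σ i)) (ρ - sr i) = 1 := by
      rw [hs _ _ hrj hb, cpr_sub' hrj, hj, hcp, sub_zero]
    have k3 : cpr cs h (ρ - sr i) (ρ - sr (σ i)) = 0 := by
      rw [cpr_sub' hb', k1, hs _ _ hρ.pos.1 hb', cpr_sub' hρ.pos.1, cpr_self cs h hρ.pos.1,
        hs _ _ hrj hρ.pos.1, hj]
      norm_num
    have hcomm : ∀ {r s : I → ℤ}, IsRoot cs h r → IsRoot cs h s → r ≠ s → r ≠ -s → 0 ≤ cpr cs h r s →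
        ∀ {u v : Y}, u ∈ X r → v ∈ X s → u * v = v * u := fun hr hs' h1 h2 h3 _ _ hu hv =>
      comm_of_not_btwn R hr hs' h1 h2 (hs.not_btwn hr hs' h1 h3) hu hv
    have hpos1 : ∀ {r s : I → ℤ}, r ∈ RGD.Pos cs h → s ∈ RGD.Pos cs h → r ≠ -s := fun hr hs' => ne_neg_of_pos hr hs'
    have hne2 : ∀ {r s : I → ℤ}, IsRoot cs h s → cpr cs h r s ≠ 2 → r ≠ s := by
      rintro r s hs' h1 rfl
      exact h1 (cpr_self cs h hs')
    -- the four elements
    obtain ⟨μ, hμ⟩ : ∃ μ, μ + cρ * τ μ = l := by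
      have hcc := H.twice R C hρ.pos.1 hρσ (c := cρ) (by rw [hρσ]; exact hcρ)
      exact exists_sub H.ne hcc hl
    obtain ⟨p, hp⟩ : ∃ p, p = x (sr i) 1 := ⟨_, rfl⟩
    obtain ⟨q, hq⟩ : ∃ q, q = x (ρ - sr i) (μ / N) := ⟨_, rfl⟩
    have hpX : p ∈ X (sr i) := hp ▸ ((C.coord _ hri).mem _).2 ⟨_, rfl⟩
    have hqX : q ∈ X (ρ - sr i) := hq ▸ ((C.coord _ hb).mem _).2 ⟨_, rfl⟩
    have hpX' : β p ∈ X (sr (σ i)) := by
      have := (Diag.root_comp R H.tau.diag H.tau.cartan hri p).2 hpX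
      rwa [sr_comp] at this
    have hqX' : β q ∈ X (ρ - sr (σ i)) := by
      have := (Diag.root_comp R H.tau.diag H.tau.cartan hb q).2 hqX
      rwa [hcomp] at this
    have hz0 : ⁅p, q⁆ = x ρ μ := by
      rw [hp, hq, hNe]
      congr 1
      field_simp
    have hz1 : ⁅β p, β q⁆ = x ρ (cρ * τ μ) := by
      rw [← map_commutatorElement, hz0, hcρ]
    have e1 : p * β p = β p * p := hcomm hri hrj hne (hpos1 (sr_mem_pos i) (sr_mem_pos _)) hcp.ge hpX hpX'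
    have e2 : q * β q = β q * q :=
      hcomm hb hb' (hne2 hb' (by rw [k3]; norm_num)) (hpos1 hbP hb'P) k3.ge hqX hqX'
    have e3 : p * β q = β q * p :=
      hcomm hri hb' (hne2 hb' (by rw [k1]; norm_num)) (hpos1 (sr_mem_pos i) hb'P) (by rw [k1]; norm_num) hpX hqX'
    have e4 : β p * q = q * β p :=
      hcomm hrj hb (hne2 hb (by rw [k2]; norm_num)) (hpos1 (sr_mem_pos _) hbP) (by rw [k2]; norm_num) hpX' hqX
    have hpU : p ∈ RGD.Sup X (RGD.Pos cs h) := RGD.le_Sup (sr_mem_pos i) hpX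
    have hpU' : β p ∈ RGD.Sup X (RGD.Pos cs h) := RGD.le_Sup (sr_mem_pos _) hpX'
    have hqU : q ∈ RGD.Sup X (RGD.Pos cs h) := RGD.le_Sup hbP hqX
    have hqU' : β q ∈ RGD.Sup X (RGD.Pos cs h) := RGD.le_Sup hb'P hqX'
    have hcen : ∀ a, ∀ u ∈ RGD.Sup X (RGD.Pos cs h), x ρ a * u = u * x ρ a := fun a u hu =>
      central R hs hab hρ (((C.coord ρ hρ.pos.1).mem _).2 ⟨a, rfl⟩) hu
    have hkey : ⁅p * β p, q * β q⁆ = x ρ l := by
      have h1 : p * q = x ρ μ * (q * p) := by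
        rw [← hz0, commutatorElement_def]; group
      have h2 : β p * β q = x ρ (cρ * τ μ) * (β q * β p) := by
        rw [← hz1, commutatorElement_def]; group
      have h3 : p * β p * (q * β q) = x ρ l * (q * β q * (p * β p)) := by
        calc p * β p * (q * β q) = p * (β p * q) * β q := by group
          _ = (p * q) * (β p * β q) := by rw [e4]; group
          _ = x ρ μ * (q * p) * (x ρ (cρ * τ μ) * (β q * β p)) := by rw [h1, h2]
          _ = x ρ μ * (q * p * x ρ (cρ * τ μ)) * (β q * β p) := by group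
          _ = x ρ μ * (x ρ (cρ * τ μ) * (q * p)) * (β q * β p) := by rw [hcen _ _ (mul_mem hqU hpU)]
          _ = (x ρ μ * x ρ (cρ * τ μ)) * (q * (p * β q) * β p) := by group
          _ = x ρ l * (q * (β q * p) * β p) := by rw [e3, ← (C.coord ρ hρ.pos.1).add, hμ]
          _ = _ := by group
      rw [commutatorElement_def, h3]
      group
    rw [← hkey]
    refine Subgroup.commutator_mem_commutator ⟨mul_mem hpU hpU', ?_⟩ ⟨mul_mem hqU hqU', ?_⟩
    · rw [map_mul, H.sq, e1]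
    · rw [map_mul, H.sq, e2]

end

end Cfsg.Agent.KFacts.RgdFld.Der

end

-- merged: Cfsg.Agent.KFacts.RgdFld.Dom
section

/-!
# The dominant root of a connected simply laced diagram

* `highest` : the dominant root is the highest root;
* `exists_node` : a node `i` with `⟨ρ, α_i^∨⟩ = 1` (rank at least two);
* `adj` : two distinct such nodes exchanged by a symmetry are orthogonal, or `ρ = α_i + α_{σ i}`;
* `der_adj`, `der_all` : `C_{X ρ}(β) ≤ [C_U(β), C_U(β)]` for every frame involution with nontrivial field part.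
-/

set_option autoImplicit false
set_option linter.unusedSectionVars false

namespace Cfsg.Agent.KFacts.RgdFld.Dom

open CoxeterSystem Cfsg.Agent.ChevalleyStructure.CoxeterGeom Cfsg.Agent.Tits.Roots Cfsg.Agent.Tits.Core
  Cfsg.Agent.Tits.Exchange Cfsg.Agent.Nodes.Reps Cfsg.Agent.Nodes.BNOf Cfsg.Agent.Nodes.StabComb
  Cfsg.Agent.Nodes.Bruhat Cfsg.Agent.Nodes.OppDec Cfsg.Agent.Nodes.PosPair Cfsg.Agent.Nodes.Coroot
  Cfsg.Agent.KFacts.RgdSL Cfsg.Agent.KFacts.RgdAut Cfsg.Agent.KFacts.RgdDiag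
  Cfsg.Agent.KFacts.RgdFld.Layer Cfsg.Agent.KFacts.RgdField Cfsg.Agent.KFacts.RgdTau Cfsg.Agent.KFacts.RgdFld.Coh
  Cfsg.Agent.KFacts.RgdFld.Center Cfsg.Agent.KFacts.RgdFld.Der
open scoped commutatorElement

variable {I W Y : Type*} [Fintype I] [DecidableEq I] [Group W] [Group Y] {M : CoxeterMatrix I}
  {cs : CoxeterSystem M W} {A : I → I → ℤ} {h : IsCartan M A} {p : ℕ} {T : Subgroup Y} {n : I → Y}
  {X : (I → ℤ) → Subgroup Y} {F : Type*} [Field F] {x : (I → ℤ) → F → Y} {χ : (I → ℤ) → Y → F}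

section Comb

/-- `b` is dominant -/
def Dm (cs : CoxeterSystem M W) (h : IsCartan M A) (b : I → ℤ) : Prop := ∀ i, 0 ≤ cpr cs h (sr i) b

theorem cpr_sum [Finite W] {b : I → ℤ} (hb : IsRoot cs h b) (a : I → ℤ) :
    cpr cs h a b = ∑ i, a i * cpr cs h (sr i) b := by
  have e : a = ∑ i, a i • (sr i : I → ℤ) := by
    funext j
    rw [Finset.sum_apply]
    rw [Finset.sum_eq_single j]
    · rw [Pi.smul_apply, sr_self, smul_eq_mul, mul_one]
    · intro i _ hi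
      rw [Pi.smul_apply, sr_ne (Ne.symm hi), smul_zero]
    · intro hj; exact absurd (Finset.mem_univ j) hj
  have h1 : ell cs h hb a = ∑ i, a i * ell cs h hb (sr i) := by
    conv_lhs => rw [e]
    rw [map_sum]
    exact Finset.sum_congr rfl fun i _ => by rw [map_zsmul, smul_eq_mul]
  exact h1

theorem Dm.nonneg [Finite W] {b : I → ℤ} (hb : IsRoot cs h b) (hd : Dm cs h b) {a : I → ℤ} (ha : 0 ≤ a) :
    0 ≤ cpr cs h a b := by
  rw [cpr_sum hb]
  exact Finset.sum_nonneg fun i _ => mul_nonneg (ha i) (hd i)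

theorem Dm.pos [Finite W] {b : I → ℤ} (hb : IsRoot cs h b) (hd : Dm cs h b) : b ∈ RGD.Pos cs h := by
  refine ⟨hb, ?_⟩
  rcases hb.pos_or_neg with h1 | h1
  · exact h1
  exfalso
  have h2 := hd.nonneg hb (a := -b) (neg_nonneg.2 h1)
  rw [cpr_neg_left _ hb, cpr_self cs h hb] at h2
  omega

variable (hconn : ∀ J : Set I, J.Nonempty → J ≠ Set.univ → ∃ a ∈ J, ∃ b, b ∉ J ∧ M a b ≠ 2)

include hconn

/-- a dominant root has full support -/
theorem Dm.supp [Finite W] (hs : SL cs h) {b : I → ℤ} (hb : IsRoot cs h b) (hd : Dm cs h b) (i : I) : 0 < b i := by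
  have hbP := hd.pos hb
  by_contra hi
  have hb0 : ∃ j, 0 < b j := by
    by_contra hcon
    push Not at hcon
    exact hb.ne_zero (le_antisymm hcon hbP.2)
  obtain ⟨a, ha, c, hc, hac⟩ := hconn {j | 0 < b j} hb0 (fun h1 => hi (h1 ▸ Set.mem_univ i : i ∈ {j | 0 < b j}))
  have hc0 : b c = 0 := le_antisymm (not_lt.1 hc) (hbP.2 c)
  have h1 : 0 ≤ cpr cs h b (sr c) := by
    rw [hs _ _ hb (isRoot_sr cs h c)]
    exact hd c
  rw [cpr_sr] at h1
  have h2 : ∀ k, A c k * b k ≤ 0 := by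
    intro k
    by_cases hk : k = c
    · rw [hk, hc0, mul_zero]
    · have h3 : A c k ≤ 0 := by
        rcases h.rel c k (Ne.symm hk) with ⟨-, h4, -⟩ | ⟨-, h4, -⟩ | ⟨-, ⟨h4, -⟩ | ⟨h4, -⟩⟩ | ⟨-, ⟨h4, -⟩ | ⟨h4, -⟩⟩ <;> omega
      exact mul_nonpos_of_nonpos_of_nonneg h3 (hbP.2 k)
  have hca : c ≠ a := by
    rintro rfl
    exact hc ha
  have h3 : A c a * b a < 0 := by
    have h4 : A c a < 0 := by
      have h5 : M c a ≠ 2 := by rwa [M.symmetric]
      rcases h.rel c a hca with ⟨h6, -⟩ | ⟨-, h4, -⟩ | ⟨-, ⟨h4, -⟩ | ⟨h4, -⟩⟩ | ⟨-, ⟨h4, -⟩ | ⟨h4, -⟩⟩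
      · exact absurd h6 h5
      all_goals omega
    exact mul_neg_of_neg_of_pos h4 ha
  have h4 : pairing A c b < 0 := by
    unfold pairing
    exact Finset.sum_neg' (fun k _ => h2 k) ⟨a, Finset.mem_univ a, h3⟩
  omega

/-- **The dominant root is the highest root.** -/
theorem highest [Finite W] (hs : SL cs h) {ρ : I → ℤ} (hρ : IsRoot cs h ρ) (hd : Dm cs h ρ) : Highest cs h ρ where
  pos := hd.pos hρ
  up := by
    intro a ha hne
    by_contra hcon
    push Not at hcon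
    have hda : Dm cs h a := by
      intro i
      by_contra h1
      have hi := isRoot_sr cs h i
      rcases hs.cases hi ha.1 with ⟨-, h2⟩ | ⟨h2, -⟩ | ⟨-, -, h2, -⟩
      · omega
      · have h3 := ne_neg_of_pos (sr_mem_pos i) ha
        exact h3 h2
      · apply hcon i
        rw [add_comm]
        exact isRoot_add hi ha.1 (by omega)
    have hρP := hd.pos hρ
    rcases hs.cases ha.1 hρ with ⟨h2, -⟩ | ⟨h2, -⟩ | ⟨-, -, h2, h3⟩
    · exact hne h2
    · exact ne_neg_of_pos ha hρP h2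
    · have h4 := hd.nonneg hρ ha.2
      by_cases h5 : cpr cs h a ρ = 0
      · have h6 : ∀ i, cpr cs h (sr i) ρ = 0 := by
          intro i
          by_contra h7
          have h8 : 0 < a i * cpr cs h (sr i) ρ :=
            mul_pos (hda.supp hconn hs ha.1 i) (lt_of_le_of_ne (hd i) (Ne.symm h7))
          have h9 : 0 < cpr cs h a ρ := by
            rw [cpr_sum hρ]
            exact Finset.sum_pos' (fun k _ => mul_nonneg (ha.2 k) (hd k)) ⟨i, Finset.mem_univ i, h8⟩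
          omega
        have h7 := cpr_self cs h hρ
        rw [cpr_sum hρ, Finset.sum_eq_zero fun i _ => by rw [h6 i, mul_zero]] at h7
        omega
      · have h6 : cpr cs h a ρ = 1 := by omega
        have h7 := isRoot_sub ha.1 hρ h6
        rcases h7.pos_or_neg with h8 | h8
        · have h9 := hd.nonneg hρ h8
          rw [cpr_sub' hρ, h6, cpr_self cs h hρ] at h9
          omega
        · have h9 := hda.nonneg ha.1 (a := -(a - ρ)) (neg_nonneg.2 h8)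
          rw [cpr_neg_left _ ha.1, cpr_sub' ha.1, cpr_self cs h ha.1, hs _ _ hρ ha.1, h6] at h9
          omega

/-- **A node adjacent to the lowest root.** -/
theorem exists_node [Finite W] [Nontrivial I] (hs : SL cs h) {ρ : I → ℤ} (hρ : IsRoot cs h ρ) (hd : Dm cs h ρ) :
    ∃ i, cpr cs h ρ (sr i) = 1 := by
  by_contra hcon
  push Not at hcon
  have h6 : ∀ i, cpr cs h (sr i) ρ = 0 := by
    intro i
    have hi := isRoot_sr cs h i
    have h1 := hcon i
    rw [hs _ _ hρ hi] at h1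
    rcases hs.cases hi hρ with ⟨h2, -⟩ | ⟨h2, -⟩ | ⟨-, -, h2, h3⟩
    · exfalso
      obtain ⟨j, hj⟩ := exists_ne i
      have h3 := hd.supp hconn hs hρ j
      rw [← h2, sr_ne hj] at h3
      exact lt_irrefl _ h3
    · exact absurd h2 (ne_neg_of_pos (sr_mem_pos i) (hd.pos hρ))
    · have := hd i
      omega
  have h7 := cpr_self cs h hρ
  rw [cpr_sum hρ, Finset.sum_eq_zero fun i _ => by rw [h6 i, mul_zero]] at h7
  omega

omit hconn in
theorem cpr_simple [Finite W] (hs : SL cs h) {i j : I} (hij : i ≠ j) :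
    cpr cs h (sr i) (sr j) = 0 ∨ cpr cs h (sr i) (sr j) = -1 := by
  have hi := isRoot_sr cs h i
  have hj := isRoot_sr cs h j
  rcases hs.cases hi hj with ⟨h2, -⟩ | ⟨h2, -⟩ | ⟨-, -, h2, h3⟩
  · exfalso
    have h3 := congrFun h2 i
    rw [sr_self, sr_ne hij] at h3
    exact one_ne_zero h3
  · exact absurd h2 (ne_neg_of_pos (cs := cs) (h := h) (sr_mem_pos i) (sr_mem_pos j))
  · by_cases h4 : cpr cs h (sr i) (sr j) = 1
    · exfalso
      have h5 := isRoot_sub hi hj h4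
      rcases h5.pos_or_neg with h6 | h6
      · have := h6 j
        rw [Pi.sub_apply, sr_self, sr_ne (Ne.symm hij)] at this
        norm_num at this
      · have := h6 i
        rw [Pi.sub_apply, sr_self, sr_ne hij] at this
        norm_num at this
    · omega

omit hconn in
/-- Two nodes adjacent to the lowest root. -/
theorem adj [Finite W] (hs : SL cs h) {ρ : I → ℤ} (hρ : IsRoot cs h ρ) {i j : I} (hij : i ≠ j)
    (hi : cpr cs h ρ (sr i) = 1) (hj : cpr cs h ρ (sr j) = 1) :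
    cpr cs h (sr i) (sr j) = 0 ∨ sr i + sr j = ρ := by
  have hri := isRoot_sr cs h i
  have hrj := isRoot_sr cs h j
  rcases cpr_simple hs hij with h1 | h1
  · exact Or.inl h1
  · right
    apply hs.eq_of_cpr (isRoot_add hri hrj h1) hρ
    rw [cpr_add cs h _ _ hρ, ← hs _ _ hρ hri, ← hs _ _ hρ hrj, hi, hj]
    norm_num

end Comb

section

variable {β : MulAut Y} {σ : Equiv.Perm I} {τ : F ≃+* F} (H : Fram T X χ A β σ τ)

include H

/-- The case `ρ = α_i + α_{σ i}` (type `A₂`). -/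
theorem der_adj (R : RGD cs h p T n X) [Finite W] [Nonempty I] [CharP F 2] (C : Coords cs h T n X x χ)
    (hs : SL cs h) (hN : Str cs h x) {ρ : I → ℤ} (hρ : Highest cs h ρ) {i : I}
    (hi : sr i + sr (σ i) = ρ) {z : Y} (hz : z ∈ X ρ) (hβz : β z = z) :
    z ∈ ⁅CU cs h X β, CU cs h X β⁆ := by
  have hab := ab_of_coords C.coord
  have hri := isRoot_sr cs h i
  have hrj := isRoot_sr cs h (σ i)
  have hρσ := Fram.rho_comp H R hρ
  have hcp : cpr cs h (sr i) (sr (σ i)) = -1 :=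
    cpr_of_add hs (sr_mem_pos i) (sr_mem_pos _) (by rw [hi]; exact hρ.pos.1)
  obtain ⟨N, hN0, hNe⟩ := hN _ _ hri hrj hcp
  rw [hi] at hNe
  obtain ⟨c, hc0, hcx⟩ := Tau.root R C H.tau hri
  rw [sr_comp] at hcx
  obtain ⟨cρ, -, hcρ⟩ := Tau.root R C H.tau hρ.pos.1
  rw [hρσ] at hcρ
  obtain ⟨l, rfl⟩ := ((C.coord ρ hρ.pos.1).mem z).1 hz
  have hl : cρ * τ l = l := by
    rw [hcρ] at hβz
    exact (C.coord ρ hρ.pos.1).inj hβz
  have hcen : ∀ z ∈ X ρ, ∀ u ∈ RGD.Sup X (RGD.Pos cs h), z * u = u * z := fun z hz u hu => central R hs hab hρ hz hu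
  have hXU : ∀ (j : I) (a : F), x (sr j) a ∈ RGD.Sup X (RGD.Pos cs h) := fun j a =>
    RGD.le_Sup (sr_mem_pos j) (((C.coord _ (isRoot_sr cs h j)).mem _).2 ⟨a, rfl⟩)
  have hlay : RGD.Sup X (Lay cs h 2) ≤ X ρ := by
    have h2 : Lay cs h 2 ⊆ {ρ} := by
      rintro z ⟨hz, hz2⟩
      have hzP : z ∈ RGD.Pos cs h := ⟨hz, pos_of_ht hz (by omega)⟩
      obtain ⟨h3, h4⟩ := hρ.ht_le hzP
      have h5 : ht ρ = 2 := by rw [← hi, RGD.ht_add, ht_sr, ht_sr]; norm_num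
      exact h4 (by omega)
    rw [← Sup_one (X := X) ρ]
    exact RGD.Sup_mono h2
  -- the fixed elements
  have hw : ∀ a, ∃ s ∈ X ρ, x (sr i) a * x (sr (σ i)) (c * τ a) * s ∈ CU cs h X β := by
    intro a
    obtain ⟨s, hsm, hsf⟩ := H.exists_fix R C hs hcx a
    have hs' := hlay hsm
    exact ⟨s, hs', mul_mem (mul_mem (hXU _ _) (hXU _ _)) (RGD.Sup_mono (lay_sub (by norm_num)) hsm), hsf⟩
  -- commutators
  have hcomm : ∀ a b, x ρ (N * c * (a * τ b + b * τ a)) ∈ ⁅CU cs h X β, CU cs h X β⁆ := by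
    intro a b
    obtain ⟨s, hsX, hsC⟩ := hw a
    obtain ⟨s', hsX', hsC'⟩ := hw b
    have h1 := Subgroup.commutator_mem_commutator hsC hsC'
    obtain ⟨P, hP⟩ : ∃ P, P = x (sr i) a * x (sr (σ i)) (c * τ a) := ⟨_, rfl⟩
    obtain ⟨Q, hQ⟩ : ∃ Q, Q = x (sr i) b * x (sr (σ i)) (c * τ b) := ⟨_, rfl⟩
    have hPU : P ∈ RGD.Sup X (RGD.Pos cs h) := hP ▸ mul_mem (hXU _ _) (hXU _ _)
    have hQU : Q ∈ RGD.Sup X (RGD.Pos cs h) := hQ ▸ mul_mem (hXU _ _) (hXU _ _)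
    rw [← hP, ← hQ] at h1
    have h2 : ⁅P * s, Q * s'⁆ = ⁅P, Q⁆ := by
      have hsU : s ∈ RGD.Sup X (RGD.Pos cs h) := RGD.le_Sup hρ.pos hsX
      have e1 : s * (Q * s') = Q * s' * s := hcen s hsX _ (mul_mem hQU (RGD.le_Sup hρ.pos hsX'))
      have e2 : s' * P⁻¹ = P⁻¹ * s' := hcen s' hsX' _ (inv_mem hPU)
      rw [commutatorElement_def, commutatorElement_def]
      calc P * s * (Q * s') * (P * s)⁻¹ * (Q * s')⁻¹ = P * (s * (Q * s')) * s⁻¹ * P⁻¹ * s'⁻¹ * Q⁻¹ := by group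
        _ = P * Q * (s' * P⁻¹) * s'⁻¹ * Q⁻¹ := by rw [e1]; group
        _ = P * Q * P⁻¹ * Q⁻¹ := by rw [e2]; group
    rw [h2] at h1
    -- the formula
    have hij : ∀ a b, x (sr i) a * x (sr (σ i)) b = x ρ (N * a * b) * (x (sr (σ i)) b * x (sr i) a) := by
      intro a b
      rw [← hNe, commutatorElement_def]; group
    have hcρ' : ∀ k, ∀ u ∈ RGD.Sup X (RGD.Pos cs h), x ρ k * u = u * x ρ k := fun k u hu =>
      hcen _ (((C.coord ρ hρ.pos.1).mem _).2 ⟨k, rfl⟩) u hu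
    have hPQ : ∀ a a' b b', x (sr i) a * x (sr (σ i)) a' * (x (sr i) b * x (sr (σ i)) b') * x ρ (N * b * a') =
        x (sr i) (a + b) * x (sr (σ i)) (a' + b') := by
      intro a a' b b'
      rw [(C.coord _ hri).add, (C.coord _ hrj).add]
      calc x (sr i) a * x (sr (σ i)) a' * (x (sr i) b * x (sr (σ i)) b') * x ρ (N * b * a') =
          x (sr i) a * x (sr (σ i)) a' * x (sr i) b * (x (sr (σ i)) b' * x ρ (N * b * a')) := by group
        _ = x (sr i) a * (x (sr (σ i)) a' * x (sr i) b * x ρ (N * b * a')) * x (sr (σ i)) b' := by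
          rw [← hcρ' _ _ (hXU _ _)]; group
        _ = x (sr i) a * (x ρ (N * b * a') * (x (sr (σ i)) a' * x (sr i) b)) * x (sr (σ i)) b' := by
          rw [hcρ' _ _ (mul_mem (hXU _ _) (hXU _ _))]
        _ = x (sr i) a * (x (sr i) b * x (sr (σ i)) a') * x (sr (σ i)) b' := by rw [← hij]
        _ = x (sr i) a * x (sr i) b * (x (sr (σ i)) a' * x (sr (σ i)) b') := by group
    have h3 : ⁅P, Q⁆ = x ρ (N * c * (a * τ b + b * τ a)) := by
      have e1 := hPQ a (c * τ a) b (c * τ b)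
      have e2 := hPQ b (c * τ b) a (c * τ a)
      rw [← hP, ← hQ] at e1 e2
      rw [add_comm b a, add_comm (c * τ b) (c * τ a), ← e1] at e2
      -- `Q P x ρ (N a c τ b) = P Q x ρ (N b c τ a)`
      have e3 : P * Q = x ρ (N * c * (a * τ b + b * τ a)) * (Q * P) := by
        have e4 : x ρ (N * b * (c * τ a)) * x ρ (N * b * (c * τ a)) = 1 := by
          rw [← (C.coord ρ hρ.pos.1).add, CharTwo.add_self_eq_zero, (C.coord ρ hρ.pos.1).zero]
        calc P * Q = P * Q * (x ρ (N * b * (c * τ a)) * x ρ (N * b * (c * τ a))) := by rw [e4, mul_one]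
          _ = Q * P * x ρ (N * a * (c * τ b)) * x ρ (N * b * (c * τ a)) := by rw [← mul_assoc, ← e2]
          _ = Q * P * x ρ (N * c * (a * τ b + b * τ a)) := by
            rw [mul_assoc, ← (C.coord ρ hρ.pos.1).add]
            congr 2
            ring
          _ = _ := by rw [hcρ' _ _ (mul_mem hQU hPU)]
      rw [commutatorElement_def, e3]; group
    rw [← h3]
    exact h1
  -- a nonzero one
  obtain ⟨θ, hθ⟩ := exists_trace H.ne (c := 1)
  rw [one_mul] at hθ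
  obtain ⟨m, hm⟩ : ∃ m, m = N * c * (θ + τ θ) := ⟨_, rfl⟩
  have hm0 : m ≠ 0 := by rw [hm]; exact mul_ne_zero (mul_ne_zero hN0 hc0) hθ
  have hmx : x ρ m ∈ ⁅CU cs h X β, CU cs h X β⁆ := by
    have := hcomm θ 1
    rwa [map_one, mul_one, one_mul, ← hm] at this
  have hmf : cρ * τ m = m := by
    have h1 : ⁅CU cs h X β, CU cs h X β⁆ ≤ CU cs h X β := by
      rw [Subgroup.commutator_le]
      intro g₁ h₁ g₂ h₂
      rw [commutatorElement_def]
      exact mul_mem (mul_mem (mul_mem h₁ h₂) (inv_mem h₁)) (inv_mem h₂)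
    have h2 := (h1 hmx).2
    rw [hcρ] at h2
    exact (C.coord ρ hρ.pos.1).inj h2
  have hcρ0 : cρ ≠ 0 := by
    rintro rfl
    rw [zero_mul] at hmf
    exact hm0 hmf.symm
  obtain ⟨f, hf⟩ : ∃ f, f = l / m := ⟨_, rfl⟩
  have hτf : τ f = f := by
    rw [hf, map_div₀]
    have h4 : τ m ≠ 0 := fun h4 => hm0 ((map_eq_zero τ).1 h4)
    rw [div_eq_div_iff h4 hm0]
    apply mul_left_cancel₀ hcρ0
    calc cρ * (τ l * m) = cρ * τ l * m := by ring
      _ = l * (cρ * τ m) := by rw [hl, hmf]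
      _ = cρ * (l * τ m) := by ring
  have h1 := hcomm (f * θ) 1
  have h2 : N * c * (f * θ * τ 1 + 1 * τ (f * θ)) = l := by
    rw [map_one, mul_one, one_mul, map_mul, hτf]
    calc N * c * (f * θ + f * τ θ) = f * (N * c * (θ + τ θ)) := by ring
      _ = l := by rw [← hm, hf, div_mul_cancel₀ _ hm0]
  rwa [h2] at h1

/-- **`C_{X ρ}(β) ≤ [C_U(β), C_U(β)]`** -/
theorem der_all (R : RGD cs h p T n X) [Finite W] [Nonempty I] [CharP F 2] (C : Coords cs h T n X x χ)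
    (hs : SL cs h) (hN : Str cs h x) {ρ : I → ℤ} (hρ : Highest cs h ρ) {i : I} (hi : cpr cs h ρ (sr i) = 1)
    {z : Y} (hz : z ∈ X ρ) (hβz : β z = z) : z ∈ ⁅CU cs h X β, CU cs h X β⁆ := by
  by_cases hfi : σ i = i
  · exact Fram.der H R C hs hN hρ hi (Or.inl hfi) hz hβz
  have hj : cpr cs h ρ (sr (σ i)) = 1 := by
    have h1 := pairing_comp H.tau.cartan i ρ
    rw [Fram.rho_comp H R hρ] at h1
    rw [cpr_sr, h1, ← cpr_sr cs h, hi]
  rcases adj hs hρ.pos.1 (Ne.symm hfi) hi hj with h1 | h1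
  · exact Fram.der H R C hs hN hρ hi (Or.inr h1) hz hβz
  · exact der_adj H R C hs hN hρ h1 hz hβz

end

end Cfsg.Agent.KFacts.RgdFld.Dom

end

-- merged: Cfsg.Agent.KFacts.RgdFld.Hom
section

/-!
# The homomorphism `Aut Y → Sym I × Aut F` of a finite group with a root group datum

* `Tau.fix_U`, `Tau.fix_UN` : an automorphism with a diagram symmetry fixes `U` and `U⁻`;
* `exists_conj_fix` : every automorphism fixes `U` up to an inner automorphism;
* `exists_phi` : the homomorphism `φ` with `φ α = (σ, τ)` iff `conj y * α` has the symmetry `(σ, τ)` for some `y`.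
-/

set_option autoImplicit false
set_option linter.unusedSectionVars false

namespace Cfsg.Agent.KFacts.RgdFld.Hom

open CoxeterSystem Cfsg.Agent.ChevalleyStructure.CoxeterGeom Cfsg.Agent.Tits.Roots Cfsg.Agent.Tits.Core
  Cfsg.Agent.Tits.Exchange Cfsg.Agent.Nodes.Reps Cfsg.Agent.Nodes.BNOf Cfsg.Agent.Nodes.StabComb
  Cfsg.Agent.Nodes.Bruhat Cfsg.Agent.Nodes.OppDec Cfsg.Agent.Nodes.LeviDec Cfsg.Agent.Nodes.NormalForm
  Cfsg.Agent.KFacts.RgdOpp Cfsg.Agent.KFacts.RgdAut Cfsg.Agent.KFacts.RgdDiag Cfsg.Agent.KFacts.RgdRigid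
  Cfsg.Agent.KFacts.RgdField Cfsg.Agent.KFacts.RgdTau
open scoped commutatorElement

variable {I W Y : Type*} [Fintype I] [DecidableEq I] [Group W] [Group Y] {M : CoxeterMatrix I}
  {cs : CoxeterSystem M W} {A : I → I → ℤ} {h : IsCartan M A} {p : ℕ} {T : Subgroup Y} {n : I → Y}
  {X : (I → ℤ) → Subgroup Y} {F : Type*} [Field F] {x : (I → ℤ) → F → Y} {χ : (I → ℤ) → Y → F} {hh : I → F → Y}

theorem root_comp' {σ : Equiv.Perm I} (hσ : ∀ i j, M (σ i) (σ j) = M i j) (hA : ∀ i j, A (σ i) (σ j) = A i j)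
    {r : I → ℤ} (hr : IsRoot cs h r) : IsRoot cs h (r ∘ σ.symm) := by
  obtain ⟨w, i, rfl⟩ := hr
  rw [← rep_hat hσ hA, sr_comp]
  exact ⟨_, _, rfl⟩

section

variable (R : RGD cs h p T n X)

include R

/-- An automorphism with a diagram symmetry maps the group of a set of roots, closed under the symmetry, to itself. -/
theorem Tau.map_Sup [Finite W] {β : MulAut Y} {σ : Equiv.Perm I} {τ : F ≃+* F} (S : Tau T X χ A β σ τ)
    {P : Set (I → ℤ)} (hP : ∀ r ∈ P, IsRoot cs h r) (hPσ : ∀ r ∈ P, r ∘ σ.symm ∈ P) {y : Y}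
    (hy : y ∈ RGD.Sup X P) : β y ∈ RGD.Sup X P := by
  have h1 : RGD.Sup X P ≤ (RGD.Sup X P).comap β.toMonoidHom := by
    refine RGD.Sup_le fun r hr v hv => ?_
    exact RGD.le_Sup (hPσ r hr) ((Diag.root_comp R S.diag S.cartan (hP r hr) v).2 hv)
  exact h1 hy

theorem Tau.fix_Sup [Finite W] {β : MulAut Y} {σ : Equiv.Perm I} {τ : F ≃+* F} (S : Tau T X χ A β σ τ)
    {P : Set (I → ℤ)} (hP : ∀ r ∈ P, IsRoot cs h r)
    (hPσ : ∀ σ : Equiv.Perm I, (∀ i j, M (σ i) (σ j) = M i j) → (∀ i j, A (σ i) (σ j) = A i j) →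
      ∀ r ∈ P, r ∘ σ.symm ∈ P) : Fix β (RGD.Sup X P) := by
  intro y
  refine ⟨fun hy => ?_, Tau.map_Sup R S hP (hPσ σ (S.diag.matrix R) S.cartan)⟩
  have h1 := Tau.map_Sup R S.inv hP (hPσ σ⁻¹ (S.inv.diag.matrix R) S.inv.cartan) hy
  rwa [MulAut.inv_apply_self] at h1

/-- An automorphism with a diagram symmetry fixes `U`. -/
theorem Tau.fix_U [Finite W] {β : MulAut Y} {σ : Equiv.Perm I} {τ : F ≃+* F} (S : Tau T X χ A β σ τ) :
    Fix β (RGD.Sup X (RGD.Pos cs h)) :=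
  Tau.fix_Sup R S (fun _ hr => hr.1) fun σ hσ hA _ hr => ⟨root_comp' hσ hA hr.1, fun i => hr.2 (σ.symm i)⟩

/-- An automorphism with a diagram symmetry fixes `U⁻`. -/
theorem Tau.fix_UN [Finite W] {β : MulAut Y} {σ : Equiv.Perm I} {τ : F ≃+* F} (S : Tau T X χ A β σ τ) :
    Fix β (UN cs h X) :=
  Tau.fix_Sup R S (fun _ hr => hr.1) fun σ hσ hA _ hr => ⟨root_comp' hσ hA hr.1, fun i => hr.2 (σ.symm i)⟩

/-- Torus elements induce automorphisms with trivial symmetry. -/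
theorem tau_conj [Finite W] (C : Coords cs h T n X x χ) {t : Y} (ht : t ∈ T) :
    Tau T X χ A (MulAut.conj t) 1 1 where
  diag := by
    have key : ∀ (H : Subgroup Y) (t : Y), cj t H = H → ∀ y, MulAut.conj t y ∈ H ↔ y ∈ H := by
      intro H t hH y
      rw [MulAut.conj_apply]
      constructor
      · intro h1
        rw [← hH, mem_cj] at h1
        have e : t⁻¹ * (t * y * t⁻¹) * t = y := by group
        rwa [e] at h1
      · intro h1
        rw [← hH, mem_cj]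
        have e : t⁻¹ * (t * y * t⁻¹) * t = y := by group
        rwa [e]
    refine ⟨fun y => ?_, fun i y => ?_, fun i y => ?_⟩
    · rw [MulAut.conj_apply]
      constructor
      · intro h1
        have e : y = t⁻¹ * (t * y * t⁻¹) * t := by group
        rw [e]
        exact mul_mem (mul_mem (inv_mem ht) h1) ht
      · intro h1
        exact mul_mem (mul_mem ht h1) (inv_mem ht)
    · exact key _ t (R.tor _ (isRoot_sr cs h i) t ht) y
    · exact key _ t (R.tor _ (isRoot_sr cs h i).neg t ht) y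
  cartan _ _ := rfl
  char i s hs := (C.coord _ (isRoot_sr cs h i)).chi_conj ht hs

/-- The symmetry of an inner automorphism is trivial. -/
theorem Tau.inner [Finite W] [Nonempty I] (hG1 : RGD.Sup X {x | IsRoot cs h x} = ⊤) (C : Coords cs h T n X x χ)
    {z : Y} {σ : Equiv.Perm I} {τ : F ≃+* F} (S : Tau T X χ A (MulAut.conj z) σ τ) : σ = 1 ∧ τ = 1 := by
  have hG := GG_eq_top (T := T) hG1
  have h1 : z ∈ Subgroup.normalizer (RGD.Sup X (RGD.Pos cs h) : Set Y) := by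
    rw [Subgroup.mem_normalizer_iff]
    intro y
    rw [← MulAut.conj_apply]
    exact (Tau.fix_U R S y).symm
  have h2 : z ∈ Subgroup.normalizer (UN cs h X : Set Y) := by
    rw [Subgroup.mem_normalizer_iff]
    intro y
    rw [← MulAut.conj_apply]
    exact (Tau.fix_UN R S y).symm
  rw [normalizer_U' R hG] at h1
  rw [normalizer_UN R hG] at h2
  have h3 : z ∈ T := by
    rw [← B_inf_BN R]
    exact ⟨h1, h2⟩
  exact Tau.unique R C S (tau_conj R C h3)

/-- **Every automorphism fixes `U` up to an inner automorphism.** -/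
theorem exists_conj_fix [Finite W] [Finite Y] [Fact p.Prime] (hG1 : RGD.Sup X {x | IsRoot cs h x} = ⊤)
    (α : MulAut Y) : ∃ y : Y, Fix (MulAut.conj y * α) (RGD.Sup X (RGD.Pos cs h)) := by
  have hG := GG_eq_top (T := T) hG1
  obtain ⟨P, hP⟩ := (R.isPGroup_Upos).exists_le_sylow
  have hPU : (P : Subgroup Y) = RGD.Sup X (RGD.Pos cs h) :=
    eq_U_of_isPGroup R P.isPGroup' hP (by rw [hG]; exact le_top)
  obtain ⟨y, hy⟩ := MulAction.exists_smul_eq Y (α • P) P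
  refine ⟨y, ?_⟩
  rw [fix_iff, ← hPU]
  have h1 := congrArg (fun Q : Sylow p Y => (Q : Subgroup Y)) hy
  have h2 : ((y • α • P : Sylow p Y) : Subgroup Y) =
      ((P : Subgroup Y).map α.toMonoidHom).map (MulAut.conj y).toMonoidHom := rfl
  have h3 : ((y • α • P : Sylow p Y) : Subgroup Y) = (P : Subgroup Y) := h1
  rw [h2, Subgroup.map_map] at h3
  exact h3

/-- **The homomorphism `Aut Y → Sym I × Aut F`.** -/
theorem exists_phi [Finite W] [Finite Y] [Nonempty I] [Fact p.Prime]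
    (hG1 : RGD.Sup X {x | IsRoot cs h x} = ⊤) (C : Coords cs h T n X x χ) (H : Coroots A T X χ hh)
    (hconn : ∀ J : Set I, J.Nonempty → J ≠ Set.univ → ∃ a ∈ J, ∃ b, b ∉ J ∧ M a b ≠ 2)
    (hA : ∀ σ : Equiv.Perm I, (∀ i j, M (σ i) (σ j) = M i j) → ∀ i j, A (σ i) (σ j) = A i j) :
    ∃ φ : MulAut Y →* Equiv.Perm I × (F ≃+* F), ∀ α : MulAut Y,
      (∃ y : Y, Tau T X χ A (MulAut.conj y * α) (φ α).1 (φ α).2) ∧
      ∀ (y : Y) (σ : Equiv.Perm I) (τ : F ≃+* F), Tau T X χ A (MulAut.conj y * α) σ τ → φ α = (σ, τ) := by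
  have hG := GG_eq_top (T := T) hG1
  have h1 : ∀ α : MulAut Y, ∃ q : Equiv.Perm I × (F ≃+* F), ∃ y : Y, Tau T X χ A (MulAut.conj y * α) q.1 q.2 := by
    intro α
    obtain ⟨y, hy⟩ := exists_conj_fix R hG1 α
    obtain ⟨u, -, hU, hUN, -, σ, D⟩ := exists_frame_pow R hG hy
    obtain ⟨τ, hτ⟩ := exists_tau R C H hconn D (hA σ (D.matrix R))
    refine ⟨(σ, τ), u * y, ?_⟩
    rw [map_mul, mul_assoc]
    exact hτ
  choose q hq using h1
  have huniq : ∀ (α : MulAut Y) (y y' : Y) (σ σ' : Equiv.Perm I) (τ τ' : F ≃+* F),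
      Tau T X χ A (MulAut.conj y * α) σ τ → Tau T X χ A (MulAut.conj y' * α) σ' τ' → σ = σ' ∧ τ = τ' := by
    intro α y y' σ σ' τ τ' S S'
    have h2 := S.mul S'.inv
    have e : MulAut.conj y * α * (MulAut.conj y' * α)⁻¹ = MulAut.conj (y * y'⁻¹) := by
      rw [mul_inv_rev, map_mul, map_inv]; group
    rw [e] at h2
    obtain ⟨h3, h4⟩ := Tau.inner R hG1 C h2
    exact ⟨mul_inv_eq_one.1 h3, mul_inv_eq_one.1 h4⟩
  have hkey : ∀ (α : MulAut Y) (y : Y) (σ : Equiv.Perm I) (τ : F ≃+* F),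
      Tau T X χ A (MulAut.conj y * α) σ τ → q α = (σ, τ) := by
    intro α y σ τ S
    obtain ⟨y', S'⟩ := hq α
    obtain ⟨h3, h4⟩ := huniq α y' y _ _ _ _ S' S
    exact Prod.ext h3 h4
  refine ⟨MonoidHom.mk' q fun α γ => ?_, fun α => ⟨hq α, hkey α⟩⟩
  obtain ⟨y, S⟩ := hq α
  obtain ⟨y', S'⟩ := hq γ
  have e : (MulAut.conj y * α) * (MulAut.conj y' * γ) = MulAut.conj (y * α y') * (α * γ) := by
    ext z
    simp only [MulAut.mul_apply, MulAut.conj_apply, map_mul, map_inv, mul_inv_rev, mul_assoc]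
  have h2 := S.mul S'
  rw [e] at h2
  exact hkey _ _ _ _ h2

end

end Cfsg.Agent.KFacts.RgdFld.Hom

end

-- merged: Cfsg.Agent.KFacts.RgdFld.AutP
section

/-!
# Involutory automorphisms with a nontrivial field part

`S₀` a `2`-group of automorphisms fixing `U`, containing the inner automorphisms of `U`.

* `Fram.exists_conj` : an involution `a` with frame part `β` is `U`-conjugate to `β`;
* `Sit.cent` : an element of `S₀` commuting with `a` and centralising `C_U(a)` lies in `X ρ ⟨a⟩`;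
* `Fram.conj` : `z ∈ X ρ` fixed by `a` is a commutator `[a, k]`;
* `Fram.der'` : `C_{X ρ}(a) ≤ [C_U(a), C_U(a)]`.
-/

set_option autoImplicit false
set_option linter.unusedSectionVars false

namespace Cfsg.Agent.KFacts.RgdFld.AutP

open CoxeterSystem Cfsg.Agent.ChevalleyStructure.CoxeterGeom Cfsg.Agent.Tits.Roots Cfsg.Agent.Tits.Core
  Cfsg.Agent.Tits.Exchange Cfsg.Agent.Nodes.Reps Cfsg.Agent.Nodes.BNOf Cfsg.Agent.Nodes.StabComb
  Cfsg.Agent.Nodes.Bruhat Cfsg.Agent.Nodes.OppDec Cfsg.Agent.Nodes.PosPair Cfsg.Agent.Nodes.Coroot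
  Cfsg.Agent.KFacts.RgdSL Cfsg.Agent.KFacts.RgdAut Cfsg.Agent.KFacts.RgdDiag Cfsg.Agent.KFacts.RgdRigid
  Cfsg.Agent.KFacts.RgdFld.Layer Cfsg.Agent.KFacts.RgdField Cfsg.Agent.KFacts.RgdTau Cfsg.Agent.KFacts.RgdFld.Coh
  Cfsg.Agent.KFacts.RgdFld.Center Cfsg.Agent.KFacts.RgdFld.SigTau Cfsg.Agent.KFacts.RgdFld.Der
  Cfsg.Agent.KFacts.RgdFld.Hom
open scoped commutatorElement

variable {I W Y : Type*} [Fintype I] [DecidableEq I] [Group W] [Group Y] {M : CoxeterMatrix I}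
  {cs : CoxeterSystem M W} {A : I → I → ℤ} {h : IsCartan M A} {T : Subgroup Y} {n : I → Y}
  {X : (I → ℤ) → Subgroup Y} {F : Type*} [Field F] {x : (I → ℤ) → F → Y} {χ : (I → ℤ) → Y → F}

theorem mul_conj (α : MulAut Y) (u : Y) : α * MulAut.conj u = MulAut.conj (α u) * α := by
  ext y
  simp only [MulAut.mul_apply, MulAut.conj_apply, map_mul, map_inv]

section

variable (R : RGD cs h 2 T n X)

include R

/-- inner automorphisms of `U` -/
theorem conj_inj [Finite W] (hG1 : RGD.Sup X {x | IsRoot cs h x} = ⊤) {u u' : Y}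
    (hu : u ∈ RGD.Sup X (RGD.Pos cs h)) (hu' : u' ∈ RGD.Sup X (RGD.Pos cs h))
    (he : MulAut.conj u = MulAut.conj u') : u = u' := by
  have hG := GG_eq_top (T := T) hG1
  refine frame_unique R hG (α := (MulAut.conj u)⁻¹) hu hu' ?_ ?_
  · rw [mul_inv_cancel]; exact fun _ => Iff.rfl
  · rw [← he, mul_inv_cancel]; exact fun _ => Iff.rfl

variable {β : MulAut Y} {σ : Equiv.Perm I} {τ : F ≃+* F}

theorem coh_U [CharP F 2] [Finite W] [Nonempty I] (C : Coords cs h T n X x χ) (hs : SL cs h)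
    (H : Fram T X χ A β σ τ) : Coh β (RGD.Sup X (RGD.Pos cs h)) := by
  have := H.coh_lay R C hs (k := 1) one_pos
  rwa [lay_one] at this

/-- **An involution with frame part `β` is `U`-conjugate to `β`.** -/
theorem exists_conj [CharP F 2] [Finite W] [Nonempty I] (hG1 : RGD.Sup X {x | IsRoot cs h x} = ⊤)
    (C : Coords cs h T n X x χ) (hs : SL cs h) (H : Fram T X χ A β σ τ) {a : MulAut Y} (ha : a * a = 1) {u : Y}
    (hu : u ∈ RGD.Sup X (RGD.Pos cs h)) (hβ : β = MulAut.conj u * a) :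
    ∃ s ∈ RGD.Sup X (RGD.Pos cs h), a = MulAut.conj s⁻¹ * β * MulAut.conj s := by
  have hβ2 : β * β = 1 := MulEquiv.ext fun y => H.sq y
  have hfix := Tau.fix_U R H.tau
  have e1 : a = MulAut.conj u⁻¹ * β := by rw [hβ, map_inv, inv_mul_cancel_left]
  have e2 : a * a = MulAut.conj (u⁻¹ * β u⁻¹) := by
    rw [e1, mul_assoc, ← mul_assoc β, mul_conj, mul_assoc _ β β, hβ2, mul_one, ← map_mul]
  have h1 : u⁻¹ * β u⁻¹ = 1 := by
    apply conj_inj R hG1 (mul_mem (inv_mem hu) ((hfix _).2 (inv_mem hu))) (one_mem _)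
    rw [← e2, ha, map_one]
  obtain ⟨s, hsU, hse⟩ := coh_U R C hs H _ (inv_mem hu) h1
  refine ⟨s, hsU, ?_⟩
  have h2 : u⁻¹ = s⁻¹ * β s := by
    have e3 : s⁻¹ * (s * u⁻¹ * (β s)⁻¹) * β s = u⁻¹ := by group
    rw [← e3, hse, mul_one]
  rw [mul_assoc, mul_conj, ← mul_assoc, ← map_mul, ← h2, e1]

/-- **Elements of `X ρ` fixed by the involution are commutators.** -/
theorem exists_comm [CharP F 2] [Finite W] [Nonempty I] (C : Coords cs h T n X x χ) (hs : SL cs h)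
    (H : Fram T X χ A β σ τ) {ρ : I → ℤ} (hρ : Highest cs h ρ) {a : MulAut Y} {s : Y}
    (hsU : s ∈ RGD.Sup X (RGD.Pos cs h)) (ha : a = MulAut.conj s⁻¹ * β * MulAut.conj s) {z : Y} (hz : z ∈ X ρ)
    (haz : a z = z) : ∃ k ∈ X ρ, a k * k⁻¹ = z := by
  have hab := ab_of_coords C.coord
  have hcen : ∀ {w u : Y}, w ∈ X ρ → u ∈ RGD.Sup X (RGD.Pos cs h) → w * u = u * w :=
    fun hw hu => central R hs hab hρ hw hu
  have hρσ := Fram.rho_comp H R hρ
  have hfix : ∀ w, β w ∈ X ρ ↔ w ∈ X ρ := by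
    intro w
    have := Diag.root_comp R H.tau.diag H.tau.cartan hρ.pos.1 w
    rwa [hρσ] at this
  have haβ : ∀ w ∈ X ρ, a w = β w := by
    intro w hw
    rw [ha, MulAut.mul_apply, MulAut.mul_apply, MulAut.conj_apply, MulAut.conj_apply, ← hcen hw hsU,
      mul_inv_cancel_right, inv_inv, ← hcen ((hfix w).2 hw) (inv_mem hsU), inv_mul_cancel_right]
  obtain ⟨c, hc, hcx⟩ := Tau.root R C H.tau hρ.pos.1
  rw [hρσ] at hcx
  have hcoh := coh_coord (C.coord ρ hρ.pos.1) H.sq H.ne hcx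
  obtain ⟨l, rfl⟩ := ((C.coord ρ hρ.pos.1).mem z).1 hz
  have h2 : x ρ l * x ρ l = 1 := by
    rw [← (C.coord ρ hρ.pos.1).add, CharTwo.add_self_eq_zero, (C.coord ρ hρ.pos.1).zero]
  have h3 : β (x ρ l) = x ρ l := by rw [← haβ _ hz, haz]
  obtain ⟨k, hk, hke⟩ := hcoh _ hz (by rw [h3, h2])
  refine ⟨k, hk, ?_⟩
  rw [haβ k hk, ← hab _ hρ.pos.1 _ (inv_mem hk) _ ((hfix k).2 hk)]
  have e : k⁻¹ * (k * x ρ l * (β k)⁻¹) * β k = x ρ l := by group
  rw [← e, hke, mul_one]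

/-- **`C_{X ρ}(a) ≤ [C_U(a), C_U(a)]`** -/
theorem der' [CharP F 2] [Finite W] [Nonempty I] (C : Coords cs h T n X x χ) (hs : SL cs h)
    (hN : Str cs h x) (H : Fram T X χ A β σ τ) {ρ : I → ℤ} (hρ : Highest cs h ρ) {i : I}
    (hi : cpr cs h ρ (sr i) = 1) {a : MulAut Y} {s : Y}
    (hsU : s ∈ RGD.Sup X (RGD.Pos cs h)) (ha : a = MulAut.conj s⁻¹ * β * MulAut.conj s) {z : Y} (hz : z ∈ X ρ)
    (haz : a z = z) : z ∈ ⁅CU cs h X a, CU cs h X a⁆ := by
  have hab := ab_of_coords C.coord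
  have hcen : ∀ {w u : Y}, w ∈ X ρ → u ∈ RGD.Sup X (RGD.Pos cs h) → w * u = u * w :=
    fun hw hu => central R hs hab hρ hw hu
  have hρσ := Fram.rho_comp H R hρ
  have hfix : ∀ w, β w ∈ X ρ ↔ w ∈ X ρ := by
    intro w
    have := Diag.root_comp R H.tau.diag H.tau.cartan hρ.pos.1 w
    rwa [hρσ] at this
  have haβ : a z = β z := by
    rw [ha, MulAut.mul_apply, MulAut.mul_apply, MulAut.conj_apply, MulAut.conj_apply, ← hcen hz hsU,
      mul_inv_cancel_right, inv_inv, ← hcen ((hfix z).2 hz) (inv_mem hsU), inv_mul_cancel_right]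
  have h1 := Dom.der_all H R C hs hN hρ hi hz (by rw [← haβ, haz])
  have h2 : (CU cs h X β).map (MulAut.conj s⁻¹).toMonoidHom ≤ CU cs h X a := by
    rintro _ ⟨w, ⟨hw, hβw⟩, rfl⟩
    show MulAut.conj s⁻¹ w ∈ CU cs h X a
    rw [mem_CU, MulAut.conj_apply, inv_inv]
    refine ⟨mul_mem (mul_mem (inv_mem hsU) hw) hsU, ?_⟩
    rw [ha, MulAut.mul_apply, MulAut.mul_apply, MulAut.conj_apply, MulAut.conj_apply, inv_inv]
    have e : s * (s⁻¹ * w * s) * s⁻¹ = w := by group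
    rw [e, hβw]
  have h3 : MulAut.conj s⁻¹ z ∈ (⁅CU cs h X β, CU cs h X β⁆).map (MulAut.conj s⁻¹).toMonoidHom := ⟨z, h1, rfl⟩
  rw [Subgroup.map_commutator] at h3
  have h4 : MulAut.conj s⁻¹ z = z := by
    rw [MulAut.conj_apply, inv_inv, ← hcen hz (inv_mem hsU), inv_mul_cancel_right]
  rw [h4] at h3
  exact Subgroup.commutator_mono h2 h2 h3

end

/-- `S₀` : a `2`-group of automorphisms fixing `U`, containing the inner automorphisms of `U`; `f` the frame part, `g`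
the symmetry. -/
structure Sit (cs : CoxeterSystem M W) (h : IsCartan M A) (T : Subgroup Y) (X : (I → ℤ) → Subgroup Y)
    (χ : (I → ℤ) → Y → F) (A' : I → I → ℤ) (S₀ : Subgroup (MulAut Y)) (f : ↥S₀ →* MulAut Y)
    (g : ↥S₀ →* Equiv.Perm I × (F ≃+* F)) : Prop where
  pg : IsPGroup 2 ↥S₀
  inn : ∀ u ∈ RGD.Sup X (RGD.Pos cs h), MulAut.conj u ∈ S₀
  fr : ∀ α : ↥S₀, ∃ u ∈ RGD.Sup X (RGD.Pos cs h), f α = MulAut.conj u * α
  ord : ∀ (α : ↥S₀) (k : ℕ), α ^ k = 1 → (f α) ^ k = 1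
  ker : ∀ α : ↥S₀, f α = 1 ↔ ∃ u ∈ RGD.Sup X (RGD.Pos cs h), (α : MulAut Y) = MulAut.conj u
  tau : ∀ α : ↥S₀, Tau T X χ A' (f α) (g α).1 (g α).2

/-- Existence. -/
theorem exists_sit [Finite W] [Nonempty I] (R : RGD cs h 2 T n X) (hG1 : RGD.Sup X {x | IsRoot cs h x} = ⊤)
    (C : Coords cs h T n X x χ) {S₀ : Subgroup (MulAut Y)} (hp : IsPGroup 2 ↥S₀)
    (hfix : ∀ α ∈ S₀, Fix α (RGD.Sup X (RGD.Pos cs h))) (hinn : ∀ u ∈ RGD.Sup X (RGD.Pos cs h), MulAut.conj u ∈ S₀)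
    (g : ↥S₀ →* Equiv.Perm I × (F ≃+* F)) (hg : ∀ α : ↥S₀, ∃ u ∈ RGD.Sup X (RGD.Pos cs h),
      Tau T X χ A (MulAut.conj u * α) (g α).1 (g α).2) :
    ∃ f : ↥S₀ →* MulAut Y, Sit cs h T X χ A S₀ f g := by
  have hG := GG_eq_top (T := T) hG1
  obtain ⟨f, hf⟩ := exists_toFrame R hG S₀ hfix
  refine ⟨f, hp, hinn, fun α => (hf α).2.1, fun α k hk => (hf α).2.2.1 k hk, fun α => (hf α).2.2.2.1, fun α => ?_⟩
  obtain ⟨u, hu, hτ⟩ := hg α
  obtain ⟨u', hu', e⟩ := (hf α).2.1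
  have h1 : u' = u := frame_unique R hG (α := (α : MulAut Y)) hu' hu (by rw [← e]; exact (hf α).1.2)
    (Tau.fix_UN R hτ)
  rw [e, h1]
  exact hτ

section

variable {S₀ : Subgroup (MulAut Y)} {f : ↥S₀ →* MulAut Y} {g : ↥S₀ →* Equiv.Perm I × (F ≃+* F)}

theorem Sit.g_conj (S : Sit cs h T X χ A S₀ f g) (R : RGD cs h 2 T n X) [Finite W] [Nonempty I]
    (C : Coords cs h T n X x χ) {α : ↥S₀} {u : Y} (hu : u ∈ RGD.Sup X (RGD.Pos cs h))
    (he : (α : MulAut Y) = MulAut.conj u) : g α = 1 := by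
  have h1 := S.tau α
  rw [(S.ker α).2 ⟨u, hu, he⟩] at h1
  obtain ⟨h2, h3⟩ := Tau.unique R C h1 Tau.one
  exact Prod.ext h2 h3

theorem Sit.pow (S : Sit cs h T X χ A S₀ f g) (α : ↥S₀) : ∃ k : ℕ, (f α) ^ 2 ^ k = 1 := by
  obtain ⟨k, hk⟩ := S.pg α
  exact ⟨k, S.ord α _ hk⟩

/-- an element of `S₀` with trivial symmetry is inner -/
theorem Sit.inner (S : Sit cs h T X χ A S₀ f g) (R : RGD cs h 2 T n X) [Finite W] [Nonempty I] [CharP F 2]
    (hG1 : RGD.Sup X {x | IsRoot cs h x} = ⊤) (C : Coords cs h T n X x χ) {α : ↥S₀} (he : g α = 1) :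
    ∃ u ∈ RGD.Sup X (RGD.Pos cs h), (α : MulAut Y) = MulAut.conj u := by
  have : Fact (Nat.Prime 2) := ⟨Nat.prime_two⟩
  rw [← S.ker]
  have h1 := S.tau α
  rw [he] at h1
  obtain ⟨k, hk⟩ := S.pow α
  exact Tau.eq_one R hG1 C h1 hk

/-- The first case of `Sit.cent`. -/
theorem Sit.cent_one (S : Sit cs h T X χ A S₀ f g) (R : RGD cs h 2 T n X) [Finite W] [Nonempty I] [CharP F 2]
    (hG1 : RGD.Sup X {x | IsRoot cs h x} = ⊤) (C : Coords cs h T n X x χ) (hs : SL cs h) (hN : Str cs h x)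
    {ρ : I → ℤ} (hρ : Highest cs h ρ) {a : ↥S₀} (hne : (g a).2 ≠ 1) (ha : a * a = 1) {δ : ↥S₀}
    (hcomm : δ * a = a * δ)
    (hcent : ∀ w ∈ RGD.Sup X (RGD.Pos cs h), (a : MulAut Y) w = w → (δ : MulAut Y) w = w) (hδ : g δ = 1) :
    ∃ z ∈ X ρ, (a : MulAut Y) z = z ∧ (δ : MulAut Y) = MulAut.conj z := by
  have hH : Fram T X χ A (f a) (g a).1 (g a).2 := by
    refine ⟨S.tau a, fun y => ?_, hne⟩
    have h1 : f a * f a = 1 := by rw [← map_mul, ha, map_one]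
    exact congrArg (fun b : MulAut Y => b y) h1
  obtain ⟨u, hu, hue⟩ := S.fr a
  have ha' : (a : MulAut Y) * a = 1 := congrArg Subtype.val ha
  obtain ⟨s, hsU, hse⟩ := exists_conj R hG1 C hs hH ha' hu hue
  obtain ⟨z, hz, hze⟩ := S.inner R hG1 C hδ
  have hfixa : ∀ w, (a : MulAut Y) w ∈ RGD.Sup X (RGD.Pos cs h) ↔ w ∈ RGD.Sup X (RGD.Pos cs h) := by
    have h1 : Fix (MulAut.conj s⁻¹ * f a * MulAut.conj s) (RGD.Sup X (RGD.Pos cs h)) := by
      have h2 : ∀ r ∈ RGD.Sup X (RGD.Pos cs h), Fix (MulAut.conj r) (RGD.Sup X (RGD.Pos cs h)) := by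
        intro r hr w
        rw [MulAut.conj_apply]
        exact (Subgroup.mem_normalizer_iff.1 (Subgroup.le_normalizer hr) w).symm
      exact ((h2 _ (inv_mem hsU)).mul (Tau.fix_U R (S.tau a))).mul (h2 _ hsU)
    rw [← hse] at h1
    exact h1
  -- `z` is fixed by `a`
  have hz1 : (a : MulAut Y) z = z := by
    apply conj_inj R hG1 ((hfixa z).2 hz) hz
    have h1 : (δ : MulAut Y) * a = a * δ := congrArg Subtype.val hcomm
    rw [hze, mul_conj] at h1
    exact (mul_right_cancel h1).symm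
  -- `s z s⁻¹` commutes with the fixed points of `β`
  have hc : ∀ w ∈ RGD.Sup X (RGD.Pos cs h), f a w = w → w * (s * z * s⁻¹) = s * z * s⁻¹ * w := by
    intro w hw hβw
    have h1 : (a : MulAut Y) (s⁻¹ * w * s) = s⁻¹ * w * s := by
      rw [hse, MulAut.mul_apply, MulAut.mul_apply, MulAut.conj_apply, MulAut.conj_apply, inv_inv]
      have e : s * (s⁻¹ * w * s) * s⁻¹ = w := by group
      rw [e, hβw]
    have h2 := hcent _ (mul_mem (mul_mem (inv_mem hsU) hw) hsU) h1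
    rw [hze, MulAut.conj_apply, mul_inv_eq_iff_eq_mul] at h2
    calc w * (s * z * s⁻¹) = s * (s⁻¹ * w * s * z) * s⁻¹ := by group
      _ = s * (z * (s⁻¹ * w * s)) * s⁻¹ := by rw [h2]
      _ = s * z * s⁻¹ * w := by group
  have h2 := hH.center R C hs hN hρ (mul_mem (mul_mem hsU hz) (inv_mem hsU)) hc
  have h3 := central R hs (ab_of_coords C.coord) hρ h2 hsU
  have h4 : z = s * z * s⁻¹ := by
    have e : s * z * s⁻¹ * s = s * z := by group
    rw [e] at h3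
    exact mul_left_cancel h3
  exact ⟨z, by rw [h4]; exact h2, hz1, hze⟩

/-- **An element of `S₀` commuting with `a` and centralising `C_U(a)` lies in `X ρ ⟨a⟩`.** -/
theorem Sit.cent (S : Sit cs h T X χ A S₀ f g) (R : RGD cs h 2 T n X) [Finite W] [Nonempty I] [CharP F 2]
    (hG1 : RGD.Sup X {x | IsRoot cs h x} = ⊤) (C : Coords cs h T n X x χ) (hs : SL cs h) (hN : Str cs h x)
    {ρ : I → ℤ} (hρ : Highest cs h ρ) {a : ↥S₀} (hne : (g a).2 ≠ 1) (ha : a * a = 1) {δ : ↥S₀}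
    (hcomm : δ * a = a * δ)
    (hcent : ∀ w ∈ RGD.Sup X (RGD.Pos cs h), (a : MulAut Y) w = w → (δ : MulAut Y) w = w) :
    ∃ z ∈ X ρ, (a : MulAut Y) z = z ∧
      ((δ : MulAut Y) = MulAut.conj z ∨ (δ : MulAut Y) = (a : MulAut Y) * MulAut.conj z) := by
  have hH : Fram T X χ A (f a) (g a).1 (g a).2 := by
    refine ⟨S.tau a, fun y => ?_, hne⟩
    have h1 : f a * f a = 1 := by rw [← map_mul, ha, map_one]
    exact congrArg (fun b : MulAut Y => b y) h1
  obtain ⟨u, hu, hue⟩ := S.fr a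
  have ha' : (a : MulAut Y) * a = 1 := congrArg Subtype.val ha
  obtain ⟨s, hsU, hse⟩ := exists_conj R hG1 C hs hH ha' hu hue
  -- conjugate by `s`
  obtain ⟨c, hc⟩ : ∃ c : ↥S₀, (c : MulAut Y) = MulAut.conj s := ⟨⟨_, S.inn s hsU⟩, rfl⟩
  have hgc : g c = 1 := S.g_conj R C hsU hc
  have hgγ : g (c * δ * c⁻¹) = g δ := by rw [map_mul, map_mul, map_inv, hgc, one_mul, inv_one, mul_one]
  obtain ⟨u₁, hu₁, hue₁⟩ := S.fr (c * δ * c⁻¹)
  have hγ : ∀ w ∈ RGD.Sup X (RGD.Pos cs h), f a w = w →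
      f (c * δ * c⁻¹) w * w⁻¹ ∈ RGD.Sup X (Lay cs h 2) := by
    intro w hw hβw
    have h1 : (a : MulAut Y) (s⁻¹ * w * s) = s⁻¹ * w * s := by
      rw [hse, MulAut.mul_apply, MulAut.mul_apply, MulAut.conj_apply, MulAut.conj_apply, inv_inv]
      have e : s * (s⁻¹ * w * s) * s⁻¹ = w := by group
      rw [e, hβw]
    have h2 := hcent _ (mul_mem (mul_mem (inv_mem hsU) hw) hsU) h1
    have h3 : ((c * δ * c⁻¹ : ↥S₀) : MulAut Y) w = w := by
      have e : ((c * δ * c⁻¹ : ↥S₀) : MulAut Y) = MulAut.conj s * δ * MulAut.conj s⁻¹ := by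
        rw [Subgroup.coe_mul, Subgroup.coe_mul, Subgroup.coe_inv, hc, map_inv]
      rw [e, MulAut.mul_apply, MulAut.mul_apply, MulAut.conj_apply, MulAut.conj_apply, inv_inv, h2]
      group
    rw [hue₁, MulAut.mul_apply, h3, MulAut.conj_apply]
    have h4 := comm_lay R hs (ab_of_coords C.coord) (k := 1) (l := 1) one_pos one_pos (a := u₁) (b := w)
      (by rw [lay_one]; exact hu₁) (by rw [lay_one]; exact hw)
    rw [commutatorElement_def] at h4
    exact h4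
  rcases SigTau.Fram.sig_tau hH R C hs (S.tau (c * δ * c⁻¹)) hγ with ⟨h1, h2⟩ | ⟨h1, h2⟩
  · have h3 : g δ = 1 := by rw [← hgγ]; exact Prod.ext h1 h2
    obtain ⟨z, hz, hz1, hze⟩ := S.cent_one R hG1 C hs hN hρ hne ha hcomm hcent h3
    exact ⟨z, hz, hz1, Or.inl hze⟩
  · have h3 : g δ = g a := by rw [← hgγ]; exact Prod.ext h1 h2
    obtain ⟨z, hz, hz1, hze⟩ := S.cent_one R hG1 C hs hN hρ hne ha (δ := a⁻¹ * δ)
      (by rw [mul_assoc, hcomm, inv_mul_cancel_left, ← mul_assoc, mul_inv_cancel, one_mul])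
      (fun w hw hw' => by
        have e : ((a⁻¹ * δ : ↥S₀) : MulAut Y) = (a : MulAut Y)⁻¹ * δ := rfl
        rw [e, MulAut.mul_apply, hcent w hw hw']
        conv_lhs => rw [← hw']
        exact MulAut.inv_apply_self _ _ _)
      (by rw [map_mul, map_inv, h3, inv_mul_cancel])
    refine ⟨z, hz, hz1, Or.inr ?_⟩
    have e : ((a⁻¹ * δ : ↥S₀) : MulAut Y) = (a : MulAut Y)⁻¹ * δ := rfl
    rw [← hze, e, mul_inv_cancel_left]

end

end Cfsg.Agent.KFacts.RgdFld.AutP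

end

-- merged: Cfsg.Agent.KFacts.RgdFld.Fld
section

/-!
# The field part of `C(t)`: the facts `Defs.Fld`

`K` a group with a simply laced root group datum over a field of characteristic two, normal in `C(t)`.

* `actC` : the action of `C(t)` on `K`;
* `exists_fld` : `Defs.Fld`.
-/

set_option autoImplicit false
set_option linter.unusedSectionVars false

namespace Cfsg.Agent.KFacts.RgdFld.Fld

open CoxeterSystem Cfsg.Agent.ChevalleyStructure.CoxeterGeom Cfsg.Agent.Tits.Roots Cfsg.Agent.Tits.Core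
  Cfsg.Agent.Tits.Exchange Cfsg.Agent.Nodes.Reps Cfsg.Agent.Nodes.BNOf Cfsg.Agent.Nodes.StabComb
  Cfsg.Agent.Nodes.Bruhat Cfsg.Agent.Nodes.OppDec Cfsg.Agent.Nodes.PosPair Cfsg.Agent.Nodes.Coroot
  Cfsg.Agent.KFacts.RgdSL Cfsg.Agent.KFacts.RgdAut Cfsg.Agent.KFacts.RgdDiag Cfsg.Agent.KFacts.RgdRigid
  Cfsg.Agent.KFacts.RgdFld.Layer Cfsg.Agent.KFacts.RgdField Cfsg.Agent.KFacts.RgdTau Cfsg.Agent.KFacts.RgdFld.Coh
  Cfsg.Agent.KFacts.RgdFld.Center Cfsg.Agent.KFacts.RgdFld.SigTau Cfsg.Agent.KFacts.RgdFld.Der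
  Cfsg.Agent.KFacts.RgdFld.Hom Cfsg.Agent.KFacts.RgdFld.AutP Cfsg.Agent.OddHalf.D7Out
open scoped commutatorElement

section Abstract

variable {G : Type*} [Group G] {t v : G} {K U Z T : Subgroup G}

theorem mem_cent {c : G} : c ∈ Subgroup.centralizer ({t} : Set G) ↔ c * t = t * c :=
  Subgroup.mem_centralizer_singleton_iff

theorem K_comm (E : Defs.Fr t v K U Z T) {k : G} (hk : k ∈ K) : k * t = t * k := by
  obtain ⟨j, hj⟩ := Subgroup.mem_zpowers_iff.1 E.tR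
  rw [← hj]
  have h1 : Commute k v := E.vK k hk
  exact h1.zpow_right j

theorem nK' (E : Defs.Fr t v K U Z T) (c : ↥(Subgroup.centralizer ({t} : Set G))) (k : ↥K) :
    (c : G) * k * (c : G)⁻¹ ∈ K :=
  (Subgroup.mem_normalizer_iff.1 (E.nK c (mem_cent.1 c.2)) k).1 k.2

/-- the action of `C(t)` on `K` -/
def actC (E : Defs.Fr t v K U Z T) : ↥(Subgroup.centralizer ({t} : Set G)) →* MulAut ↥K where
  toFun c :=
    { toFun := fun k => ⟨(c : G) * k * (c : G)⁻¹, nK' E c k⟩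
      invFun := fun k => ⟨((c⁻¹ : ↥(Subgroup.centralizer ({t} : Set G))) : G) * k *
        ((c⁻¹ : ↥(Subgroup.centralizer ({t} : Set G))) : G)⁻¹, nK' E c⁻¹ k⟩
      left_inv := fun k => Subtype.ext (by
        show (c : G)⁻¹ * ((c : G) * k * (c : G)⁻¹) * ((c : G)⁻¹)⁻¹ = k
        group)
      right_inv := fun k => Subtype.ext (by
        show (c : G) * ((c : G)⁻¹ * k * ((c : G)⁻¹)⁻¹) * (c : G)⁻¹ = k
        group)
      map_mul' := fun k k' => Subtype.ext (by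
        show (c : G) * (k * k') * (c : G)⁻¹ = (c : G) * k * (c : G)⁻¹ * ((c : G) * k' * (c : G)⁻¹)
        group) }
  map_one' := MulEquiv.ext fun k => Subtype.ext (by
    show (1 : G) * k * (1 : G)⁻¹ = k
    group)
  map_mul' c c' := MulEquiv.ext fun k => Subtype.ext (by
    show (c : G) * c' * k * ((c : G) * c')⁻¹ = (c : G) * ((c' : G) * k * (c' : G)⁻¹) * (c : G)⁻¹
    group)

theorem actC_apply (E : Defs.Fr t v K U Z T) (c : ↥(Subgroup.centralizer ({t} : Set G))) (k : ↥K) :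
    ((actC E c k : ↥K) : G) = c * k * (c : G)⁻¹ := rfl

/-- the kernel of the action is `R` -/
theorem actC_eq_one (E : Defs.Fr t v K U Z T) {c : ↥(Subgroup.centralizer ({t} : Set G))} :
    actC E c = 1 ↔ (c : G) ∈ Subgroup.zpowers v := by
  constructor
  · intro h1
    refine E.cK c (mem_cent.1 c.2) fun k hk => ?_
    have h2 : (c : G) * k * (c : G)⁻¹ = k :=
      congrArg Subtype.val (congrArg (fun b : MulAut ↥K => b ⟨k, hk⟩) h1)
    rw [mul_inv_eq_iff_eq_mul] at h2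
    exact h2.symm
  · intro h1
    obtain ⟨j, hj⟩ := Subgroup.mem_zpowers_iff.1 h1
    ext k
    rw [actC_apply]
    have h2 : Commute (k : G) v := E.vK k k.2
    have h3 : (k : G) * c = c * k := by rw [← hj]; exact h2.zpow_right j
    rw [← h3, mul_inv_cancel_right]; rfl

theorem actC_of_mem (E : Defs.Fr t v K U Z T) {c : ↥(Subgroup.centralizer ({t} : Set G))} (hc : (c : G) ∈ K) :
    actC E c = MulAut.conj (⟨c, hc⟩ : ↥K) := by
  ext k
  rfl

/-- two elements of `C(t)` acting in the same way on `K` differ by an element of `R` -/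
theorem actC_eq (E : Defs.Fr t v K U Z T) {c c' : ↥(Subgroup.centralizer ({t} : Set G))} (he : actC E c = actC E c') :
    (c : G) * (c' : G)⁻¹ ∈ Subgroup.zpowers v := by
  have h1 : actC E (c * c'⁻¹) = 1 := by rw [map_mul, map_inv, he, mul_inv_cancel]
  exact (actC_eq_one E).1 h1

end Abstract

variable {I W : Type*} [Fintype I] [DecidableEq I] [Group W] {M : CoxeterMatrix I}
  {cs : CoxeterSystem M W} {A : I → I → ℤ} {h : IsCartan M A}
  {G : Type*} [Group G] {K : Subgroup G} {T₀ : Subgroup ↥K} {n : I → ↥K} {X : (I → ℤ) → Subgroup ↥K}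
  {F : Type*} [Field F] {x : (I → ℤ) → F → ↥K} {χ : (I → ℤ) → ↥K → F} {hh : I → F → ↥K}
  {t v : G} {U Z T : Subgroup G}

/-- **The field part of `C(t)`.** -/
theorem exists_fld [Finite G] [Finite W] [Nontrivial I] [CharP F 2] (E : Defs.Fr t v K U Z T)
    (hU : U = (RGD.Sup X (RGD.Pos cs h)).map K.subtype) {ρ : I → ℤ} (hZ : Z = (X ρ).map K.subtype)
    (R : RGD cs h 2 T₀ n X)
    (hG1 : RGD.Sup X {x | IsRoot cs h x} = ⊤) (C : Coords cs h T₀ n X x χ) (H : Coroots A T₀ X χ hh)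
    (hconn : ∀ J : Set I, J.Nonempty → J ≠ Set.univ → ∃ a ∈ J, ∃ b, b ∉ J ∧ M a b ≠ 2)
    (hA : ∀ σ : Equiv.Perm I, (∀ i j, M (σ i) (σ j) = M i j) → ∀ i j, A (σ i) (σ j) = A i j)
    (hs : SL cs h) (hN : Str cs h x) (hρr : IsRoot cs h ρ) (hρd : ∀ i, 0 ≤ cpr cs h (sr i) ρ)
    (hM2 : ∀ σ : Equiv.Perm I, (∀ i j, M (σ i) (σ j) = M i j) → ∀ k : ℕ, σ ^ 2 ^ k = 1 → σ * σ = 1) :
    ∃ (B : Type) (_ : CommGroup B) (lf : ↥(Subgroup.centralizer ({t} : Set G)) →* B)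
      (hT : T ≤ Subgroup.centralizer ({t} : Set G)), Defs.Fld E lf hT ∧
      ∀ (y : G) (hy : y ∈ T) (u : ↥K) (σ : Equiv.Perm I) (τ : F ≃+* F),
        Tau T₀ X χ A (MulAut.conj u * actC E ⟨y, hT hy⟩) σ τ → lf ⟨y, hT hy⟩ = 1 → τ = 1 := by
  have : Fact (Nat.Prime 2) := ⟨Nat.prime_two⟩
  have hG := GG_eq_top (T := T₀) hG1
  have hρ : Highest cs h ρ := Dom.highest hconn hs hρr hρd
  obtain ⟨i₀, hi₀⟩ := Dom.exists_node hconn hs hρr hρd
  -- the field is finite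
  have hFfin : Finite F := by
    obtain ⟨i⟩ : Nonempty I := inferInstance
    exact Finite.of_injective _ (C.coord _ (isRoot_sr cs h i)).inj
  have hAfin : Finite (F ≃+* F) := Finite.of_injective (fun e : F ≃+* F => (e : F → F)) DFunLike.coe_injective
  have hcyc : IsCyclic (F ≃+* F) := Cfsg.Agent.LieRecognition.FieldSemilinear.isCyclic_ringAut F
  obtain ⟨φ, hφ⟩ := exists_phi R hG1 C H hconn hA
  obtain ⟨B, hB, π, hπ2, hBu, hπ1⟩ := Two.exists_proj (F ≃+* F)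
  have hT : T ≤ Subgroup.centralizer ({t} : Set G) := fun y hy => mem_cent.2 (E.tc y hy)
  have hUT : U ≤ T := by rw [E.U_eq]; exact inf_le_left
  have hUK : U ≤ K := by rw [E.U_eq]; exact inf_le_right
  have hmemU : ∀ k : ↥K, (k : G) ∈ U ↔ k ∈ RGD.Sup X (RGD.Pos cs h) := by
    intro k
    rw [hU]
    constructor
    · rintro ⟨k', hk', e⟩
      rwa [← Subtype.ext e]
    · intro hk
      exact ⟨k, hk, rfl⟩
  have hmemZ : ∀ k : ↥K, (k : G) ∈ Z ↔ k ∈ X ρ := by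
    intro k
    rw [hZ]
    constructor
    · rintro ⟨k', hk', e⟩
      rwa [← Subtype.ext e]
    · intro hk
      exact ⟨k, hk, rfl⟩
  -- the symmetry of the elements of `C(t)`
  obtain ⟨ψ, hψ⟩ : ∃ ψ : ↥(Subgroup.centralizer ({t} : Set G)) →* (F ≃+* F),
      ψ = (MonoidHom.snd _ _).comp (φ.comp (actC E)) := ⟨_, rfl⟩
  have hψ' : ∀ c, ψ c = (φ (actC E c)).2 := fun c => by rw [hψ]; rfl
  obtain ⟨lf, hlf⟩ : ∃ lf : ↥(Subgroup.centralizer ({t} : Set G)) →* B, lf = π.comp ψ := ⟨_, rfl⟩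
  have hlf' : ∀ c, lf c = π (ψ c) := fun c => by rw [hlf]; rfl
  -- the action of `T`
  obtain ⟨aT, haT⟩ : ∃ aT : ↥T →* MulAut ↥K, aT = (actC E).comp (Subgroup.inclusion hT) := ⟨_, rfl⟩
  have haT' : ∀ y : ↥T, aT y = actC E ⟨y, hT y.2⟩ := fun y => by rw [haT]; rfl
  have hpT : ∀ y : ↥T, ∃ k : ℕ, y ^ 2 ^ k = 1 := fun y => E.pT y
  have hSp : IsPGroup 2 ↥aT.range := by
    rintro ⟨_, y, rfl⟩
    obtain ⟨k, hk⟩ := hpT y
    exact ⟨k, Subtype.ext (by
      show aT y ^ 2 ^ k = 1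
      rw [← map_pow, hk, map_one])⟩
  have hfix : ∀ α ∈ aT.range, Fix α (RGD.Sup X (RGD.Pos cs h)) := by
    rintro _ ⟨y, rfl⟩
    have key : ∀ y : ↥T, ∀ k ∈ RGD.Sup X (RGD.Pos cs h), aT y k ∈ RGD.Sup X (RGD.Pos cs h) := by
      intro y k hk
      rw [← hmemU, E.U_eq]
      rw [← hmemU] at hk
      refine ⟨?_, (aT y k).2⟩
      rw [haT']
      exact T.mul_mem (T.mul_mem y.2 (hUT hk)) (T.inv_mem y.2)
    intro k
    refine ⟨fun hk => ?_, key y k⟩
    have h1 := key y⁻¹ _ hk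
    rwa [map_inv, MulAut.inv_apply_self] at h1
  have haTU : ∀ (u : ↥K) (hu : (u : G) ∈ U), aT ⟨u, hUT hu⟩ = MulAut.conj u := by
    intro u hu
    rw [haT', actC_of_mem E (c := ⟨u, hT (hUT hu)⟩) u.2]
  have hinn : ∀ u ∈ RGD.Sup X (RGD.Pos cs h), MulAut.conj u ∈ aT.range := by
    intro u hu
    rw [← hmemU] at hu
    exact ⟨⟨u, hUT hu⟩, haTU u hu⟩
  obtain ⟨g, hg⟩ : ∃ g : ↥aT.range →* Equiv.Perm I × (F ≃+* F), g = φ.comp aT.range.subtype := ⟨_, rfl⟩
  have hg' : ∀ α, g α = φ α := fun α => by rw [hg]; rfl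
  obtain ⟨f, S⟩ := exists_sit R hG1 C hSp hfix hinn g (by
    intro α
    obtain ⟨u, hu, -, -, -, σ, D⟩ := exists_frame_pow R hG (hfix α.1 α.2)
    obtain ⟨τ, hτ⟩ := exists_tau R C H hconn D (hA σ (D.matrix R))
    refine ⟨u, hu, ?_⟩
    rw [hg', (hφ α.1).2 u σ τ hτ]
    exact hτ)
  -- the element of `S₀` defined by `y ∈ T`
  obtain ⟨r, hr⟩ : ∃ r : ↥T →* ↥aT.range, r = aT.rangeRestrict := ⟨_, rfl⟩
  have hr' : ∀ y, (r y : MulAut ↥K) = aT y := fun y => by rw [hr]; rfl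
  have hgr : ∀ y : ↥T, (g (r y)).2 = ψ ⟨y, hT y.2⟩ := by
    intro y
    rw [hg', hr', haT', hψ']
  have hpow2 : ∀ y : ↥T, ∃ k : ℕ, ψ ⟨y, hT y.2⟩ ^ 2 ^ k = 1 := by
    intro y
    obtain ⟨k, hk⟩ := hpT y
    refine ⟨k, ?_⟩
    rw [← map_pow]
    have h1 : (y : G) ^ 2 ^ k = 1 := by
      rw [← Subgroup.coe_pow, hk]; rfl
    have : (⟨(y : G), hT y.2⟩ : ↥(Subgroup.centralizer ({t} : Set G))) ^ 2 ^ k = 1 := by
      apply Subtype.ext
      rw [Subgroup.coe_pow]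
      exact h1
    rw [this, map_one]
  have hlf1 : ∀ y : ↥T, lf ⟨y, hT y.2⟩ = 1 → ψ ⟨y, hT y.2⟩ = 1 := by
    intro y h1
    obtain ⟨k, hk⟩ := hpow2 y
    rw [hlf'] at h1
    exact hπ1 _ k hk h1
  -- a good element
  have hgood : ∀ y : G, Defs.GoodY (v := v) lf hT y → ∃ hy : y ∈ T,
      (g (r ⟨y, hy⟩)).2 ≠ 1 ∧ r ⟨y, hy⟩ * r ⟨y, hy⟩ = 1 := by
    rintro y ⟨hy, h1, -, h3⟩
    refine ⟨hy, ?_, ?_⟩
    · rw [hgr]
      intro h4
      exact h1 (by rw [hlf', h4, map_one])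
    · apply Subtype.ext
      have h4 := (actC_eq_one E (c := ⟨y, hT hy⟩ * ⟨y, hT hy⟩)).2 h3
      rw [map_mul, ← haT' ⟨y, hy⟩, ← hr'] at h4
      exact h4
  refine ⟨B, hB, lf, hT, ?_, ?_⟩
  swap
  · intro y hy u σ τ hτ h1
    have h2 := hlf1 ⟨y, hy⟩ h1
    rw [hψ', (hφ _).2 u σ τ hτ] at h2
    exact h2
  constructor
  · -- lK
    intro c hc
    rw [hlf', hψ', actC_of_mem E hc]
    have h1 : φ (MulAut.conj (⟨c, hc⟩ : ↥K)) = (1, 1) := by
      apply (hφ _).2 (⟨c, hc⟩ : ↥K)⁻¹ 1 1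
      rw [map_inv, inv_mul_cancel]
      exact Tau.one
    rw [h1, map_one]
  · -- lv
    intro c hc
    rw [hlf', hψ', (actC_eq_one E).2 hc, map_one]
    exact map_one π
  · -- l2
    intro c
    rw [hlf']
    exact hπ2 _
  · -- lu
    intro c c' h1 h2 h3 h4
    exact hBu _ _ h1 h2 h3 h4
  · -- (A)
    intro y hy h1 h2
    obtain ⟨u, hu, hue⟩ := S.fr (r ⟨y, hy⟩)
    have huU := (hmemU u).2 hu
    obtain ⟨y', hy'⟩ : ∃ y' : ↥T, y' = ⟨u, hUT huU⟩ * ⟨y, hy⟩ := ⟨_, rfl⟩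
    have hf : aT y' = f (r ⟨y, hy⟩) := by
      rw [hy', map_mul, haTU u huU, hue, hr']
    have hlfy : lf ⟨y', hT y'.2⟩ = lf ⟨y, hT hy⟩ := by
      have e : (⟨(y' : G), hT y'.2⟩ : ↥(Subgroup.centralizer ({t} : Set G))) =
          ⟨u, hT (hUT huU)⟩ * ⟨y, hT hy⟩ := Subtype.ext (by rw [hy']; rfl)
      rw [e, map_mul]
      have h3 : lf ⟨u, hT (hUT huU)⟩ = 1 := by
        rw [hlf', hψ', actC_of_mem E (c := ⟨u, hT (hUT huU)⟩) u.2]
        have h1 : φ (MulAut.conj u) = (1, 1) := by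
          apply (hφ _).2 u⁻¹ 1 1
          rw [map_inv, inv_mul_cancel]
          exact Tau.one
        rw [h1, map_one]
      rw [h3, one_mul]
    have hsq : f (r ⟨y, hy⟩) * f (r ⟨y, hy⟩) = 1 := by
      have h3 := (S.tau (r ⟨y, hy⟩)).mul (S.tau (r ⟨y, hy⟩))
      have hσ : (g (r ⟨y, hy⟩)).1 * (g (r ⟨y, hy⟩)).1 = 1 := by
        obtain ⟨k, hk⟩ := hSp (r ⟨y, hy⟩)
        refine hM2 _ ((S.tau (r ⟨y, hy⟩)).diag.matrix R) k ?_
        have h4 : (g (r ⟨y, hy⟩)) ^ 2 ^ k = 1 := by rw [← map_pow, hk, map_one]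
        have h5 := congrArg Prod.fst h4
        rwa [Prod.pow_fst] at h5
      have hτ : (g (r ⟨y, hy⟩)).2 * (g (r ⟨y, hy⟩)).2 = 1 := by
        rw [hgr, ← map_mul]
        have e : (⟨y, hT hy⟩ : ↥(Subgroup.centralizer ({t} : Set G))) * ⟨y, hT hy⟩ =
          ⟨((⟨y, hy⟩ * ⟨y, hy⟩ : ↥T) : G), hT (⟨y, hy⟩ * ⟨y, hy⟩ : ↥T).2⟩ := rfl
        rw [e]
        apply hlf1
        rw [← e, map_mul, h2]
      rw [hσ, hτ] at h3
      obtain ⟨k, hk⟩ := S.pow (r ⟨y, hy⟩ * r ⟨y, hy⟩)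
      rw [map_mul] at hk
      exact Tau.eq_one R hG1 C h3 hk
    refine ⟨y', ⟨y'.2, ?_, ?_, ?_⟩, ?_⟩
    · rw [hlfy]; exact h1
    · rw [hlfy]; exact h2
    · have h3 : actC E (⟨y', hT y'.2⟩ * ⟨y', hT y'.2⟩) = 1 := by
        rw [map_mul, ← haT' y', hf, hsq]
      exact (actC_eq_one E).1 h3
    · -- the order
      apply Nat.le_of_dvd (orderOf_pos y)
      apply orderOf_dvd_of_pow_eq_one
      have h3 : (r ⟨y, hy⟩) ^ orderOf y = 1 := by
        rw [← map_pow]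
        have : (⟨y, hy⟩ : ↥T) ^ orderOf y = 1 := Subtype.ext (pow_orderOf_eq_one y)
        rw [this, map_one]
      have h4 := S.ord _ _ h3
      rw [← hf, ← map_pow] at h4
      have h5 : ((y' ^ orderOf y : ↥T) : G) ∈ Subgroup.zpowers v := by
        rw [haT'] at h4
        exact (actC_eq_one E).1 h4
      have h6 : ∀ k : ℕ, ∃ w ∈ U, ((y' ^ k : ↥T) : G) = w * y ^ k := by
        intro k
        induction k with
        | zero => exact ⟨1, one_mem _, by rw [pow_zero, pow_zero, one_mul]; rfl⟩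
        | succ k ih =>
          obtain ⟨w, hw, e⟩ := ih
          have h7 : ∀ w ∈ U, y ^ k * w * (y ^ k)⁻¹ ∈ U := by
            intro w hw
            have h8 := (hfix _ ⟨(⟨y, hy⟩ ^ k : ↥T), rfl⟩ ⟨w, hUK hw⟩).2 ((hmemU _).1 hw)
            rw [← hmemU, haT'] at h8
            exact h8
          refine ⟨w * (y ^ k * u * (y ^ k)⁻¹), mul_mem hw (h7 _ huU), ?_⟩
          have e2 : (y' : G) = u * y := by rw [hy']; rfl
          have e3 : ((y' ^ (k + 1) : ↥T) : G) = ((y' ^ k : ↥T) : G) * y' := by rw [pow_succ]; rfl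
          rw [e3, e, e2, pow_succ]
          group
      obtain ⟨w, hw, e⟩ := h6 (orderOf y)
      rw [pow_orderOf_eq_one, mul_one] at e
      rw [e] at h5
      have h7 : ((y' ^ orderOf y : ↥T) : G) = 1 := by
        rw [e]
        exact E.KR w (hUK hw) h5
      exact h7
  · -- (B)
    intro y hyg w hw hwy hcent
    obtain ⟨hy, h1, h2⟩ := hgood y hyg
    obtain ⟨z, hz, hz1, hz2⟩ := S.cent R hG1 C hs hN hρ h1 h2 (δ := r ⟨w, hw⟩)
      (by rw [← map_mul, ← map_mul]; congr 1; exact Subtype.ext hwy) (by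
        intro k hk hk1
        rw [hr', haT'] at hk1
        rw [hr', haT']
        have h3 : y * k * y⁻¹ = k := congrArg Subtype.val hk1
        rw [mul_inv_eq_iff_eq_mul] at h3
        have h4 := hcent k ((hmemU k).2 hk) h3.symm
        apply Subtype.ext
        show w * k * w⁻¹ = k
        rw [← h4, mul_inv_cancel_right])
    have hzZ : (z : G) ∈ Z := (hmemZ z).2 hz
    have hzy : (z : G) * y = y * z := by
      rw [hr', haT'] at hz1
      have h3 : y * z * y⁻¹ = z := congrArg Subtype.val hz1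
      rw [mul_inv_eq_iff_eq_mul] at h3
      exact h3.symm
    have hzT : (z : G) ∈ Subgroup.centralizer ({t} : Set G) := hT (hUT (E.ZU hzZ))
    have hzC : actC E ⟨z, hzT⟩ = MulAut.conj z := actC_of_mem E (c := ⟨z, hzT⟩) z.2
    rcases hz2 with h3 | h3
    · rw [hr', haT', ← hzC] at h3
      exact ⟨w * (z : G)⁻¹, actC_eq E h3, z, hzZ, hzy, Or.inl (by group)⟩
    · rw [hr', hr', haT', haT', ← hzC, ← map_mul] at h3
      have h4 : w * (y * z)⁻¹ ∈ Subgroup.zpowers v := actC_eq E h3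
      obtain ⟨q, hq⟩ : ∃ q, q = w * (y * (z : G))⁻¹ := ⟨_, rfl⟩
      rw [← hq] at h4
      -- `y⁻¹ q y ∈ R`
      have h5 : y⁻¹ * q * y ∈ Subgroup.zpowers v := by
        have h6 := (actC_eq_one E (c := (⟨y, hT hy⟩ : ↥(Subgroup.centralizer ({t} : Set G)))⁻¹ *
          ⟨q, hq ▸ mul_mem (hT hw) (inv_mem (mul_mem (hT hy) hzT))⟩ * ⟨y, hT hy⟩)).1 (by
            rw [map_mul, map_mul, (actC_eq_one E (c := ⟨q, _⟩)).2 h4, mul_one, ← map_mul, inv_mul_cancel, map_one])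
        exact h6
      refine ⟨y⁻¹ * q * y, h5, z, hzZ, hzy, Or.inr ?_⟩
      rw [hq]; group
  · -- (C)
    intro y hyg z hz hzy
    obtain ⟨hy, h1, h2⟩ := hgood y hyg
    have hzK : z ∈ K := hUK (E.ZU hz)
    have hzX : (⟨z, hzK⟩ : ↥K) ∈ X ρ := (hmemZ ⟨z, hzK⟩).1 hz
    have hH : Fram T₀ X χ A (f (r ⟨y, hy⟩)) (g (r ⟨y, hy⟩)).1 (g (r ⟨y, hy⟩)).2 := by
      refine ⟨S.tau _, fun k => ?_, h1⟩
      have h3 : f (r ⟨y, hy⟩) * f (r ⟨y, hy⟩) = 1 := by rw [← map_mul, h2, map_one]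
      exact congrArg (fun b : MulAut ↥K => b k) h3
    obtain ⟨u, hu, hue⟩ := S.fr (r ⟨y, hy⟩)
    obtain ⟨s, hsU, hse⟩ := exists_conj R hG1 C hs hH (congrArg Subtype.val h2) hu hue
    obtain ⟨k, hk, hke⟩ := exists_comm R C hs hH hρ hsU hse hzX (by
      rw [hr', haT']
      apply Subtype.ext
      show y * z * y⁻¹ = z
      rw [← hzy, mul_inv_cancel_right])
    have hkU : (k : G) ∈ U := E.ZU ((hmemZ k).2 hk)
    have h3 : y * k * y⁻¹ * (k : G)⁻¹ = z := by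
      rw [hr', haT'] at hke
      exact congrArg Subtype.val hke
    -- `y² ∈ R` centralises `K`
    have h4 : (k : G) * (y * y) = y * y * k := by
      have h5 : aT ⟨y, hy⟩ * aT ⟨y, hy⟩ = 1 := by
        rw [← hr']
        exact congrArg Subtype.val h2
      rw [haT'] at h5
      have h6 : y * (y * k * y⁻¹) * y⁻¹ = k :=
        congrArg Subtype.val (congrArg (fun b : MulAut ↥K => b k) h5)
      calc (k : G) * (y * y) = y * (y * k * y⁻¹) * y⁻¹ * (y * y) := by rw [h6]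
        _ = y * y * k := by group
    refine ⟨k, hkU, ?_⟩
    -- `y z = z y = y k y⁻¹ k⁻¹ y`, and `y⁻¹ k y = y k y⁻¹`
    have h5 : y⁻¹ * k * y = y * k * y⁻¹ := by
      calc y⁻¹ * k * y = y⁻¹ * ((k : G) * (y * y)) * y⁻¹ := by group
        _ = y⁻¹ * (y * y * k) * y⁻¹ := by rw [h4]
        _ = y * k * y⁻¹ := by group
    rw [← h3, ← h5]
    group
  · -- (D)
    intro y hyg z hz hzy
    obtain ⟨hy, h1, h2⟩ := hgood y hyg
    have hzK : z ∈ K := hUK (E.ZU hz)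
    have hzX : (⟨z, hzK⟩ : ↥K) ∈ X ρ := (hmemZ ⟨z, hzK⟩).1 hz
    have hH : Fram T₀ X χ A (f (r ⟨y, hy⟩)) (g (r ⟨y, hy⟩)).1 (g (r ⟨y, hy⟩)).2 := by
      refine ⟨S.tau _, fun k => ?_, h1⟩
      have h3 : f (r ⟨y, hy⟩) * f (r ⟨y, hy⟩) = 1 := by rw [← map_mul, h2, map_one]
      exact congrArg (fun b : MulAut ↥K => b k) h3
    obtain ⟨u, hu, hue⟩ := S.fr (r ⟨y, hy⟩)
    obtain ⟨s, hsU, hse⟩ := exists_conj R hG1 C hs hH (congrArg Subtype.val h2) hu hue
    have h3 := der' R C hs hN hH hρ hi₀ hsU hse hzX (by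
      rw [hr', haT']
      apply Subtype.ext
      show y * z * y⁻¹ = z
      rw [← hzy, mul_inv_cancel_right])
    have h4 : (CU cs h X ((r ⟨y, hy⟩ : ↥aT.range) : MulAut ↥K)).map K.subtype ≤
        U ⊓ Subgroup.centralizer ({y} : Set G) := by
      rintro _ ⟨k, ⟨hk, hk1⟩, rfl⟩
      refine ⟨(hmemU k).2 hk, ?_⟩
      rw [hr', haT'] at hk1
      have h5 : y * k * y⁻¹ = k := congrArg Subtype.val hk1
      rw [mul_inv_eq_iff_eq_mul] at h5
      exact Subgroup.mem_centralizer_singleton_iff.2 h5.symm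
    have h5 : z ∈ (⁅CU cs h X ((r ⟨y, hy⟩ : ↥aT.range) : MulAut ↥K),
        CU cs h X ((r ⟨y, hy⟩ : ↥aT.range) : MulAut ↥K)⁆).map K.subtype := ⟨⟨z, hzK⟩, h3, rfl⟩
    rw [Subgroup.map_commutator] at h5
    exact Subgroup.commutator_mono h4 h4 h5

end Cfsg.Agent.KFacts.RgdFld.Fld

end
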